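import Mathlib

/-!
# Abstract lemmas for the recognition of `J₁` (helper17)

Words in two generators, a simplicity criterion through Sylow subgroups, and small helpers.
-/

set_option autoImplicit false

namespace Cfsg.Agent.Helper17.J1

section Words

variable {K : Type*} [Group K]

/-- the letters: `0 = x`, `1 = x⁻¹`, `2 = y`, `3 = y⁻¹` -/
def cols (x y : K) : ℕ → K
  | 0 => x
  | 1 => x⁻¹
  | 2 => y
  | 3 => y⁻¹
  | _ => 1

/-- the inverse letter -/
def invl : ℕ → ℕ
  | 0 => 1
  | 1 => 0
  | 2 => 3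
  | 3 => 2
  | (n + 4) => n + 4

theorem cols_invl (x y : K) (l : ℕ) : cols x y (invl l) = (cols x y l)⁻¹ := by
  rcases l with _ | _ | _ | _ | l <;> simp [cols, invl]

/-- value of a word -/
def ev (x y : K) (w : List ℕ) : K := (w.map (cols x y)).prod

theorem ev_nil (x y : K) : ev x y [] = 1 := rfl

theorem ev_cons (x y : K) (l : ℕ) (w : List ℕ) : ev x y (l :: w) = cols x y l * ev x y w := by
  simp [ev]

theorem ev_append (x y : K) (w w' : List ℕ) : ev x y (w ++ w') = ev x y w * ev x y w' := by
  simp [ev]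

/-- the inverse word -/
def invw (w : List ℕ) : List ℕ := (w.map invl).reverse

theorem ev_invw (x y : K) (w : List ℕ) : ev x y (invw w) = (ev x y w)⁻¹ := by
  induction w with
  | nil => simp [ev, invw]
  | cons l w ih =>
    have : invw (l :: w) = invw w ++ [invl l] := by simp [invw]
    rw [this, ev_append, ih, ev_cons, ev_cons, ev_nil, mul_one, cols_invl, mul_inv_rev]

/-- substitution of a word for a letter -/
def sletter (wa wb : List ℕ) : ℕ → List ℕ
  | 0 => wa
  | 1 => invw wa
  | 2 => wb
  | 3 => invw wb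
  | _ => []

/-- substitution of words for the two generators -/
def subst (wa wb : List ℕ) : List ℕ → List ℕ
  | [] => []
  | l :: w => sletter wa wb l ++ subst wa wb w

theorem ev_sletter (x y : K) (wa wb : List ℕ) (l : ℕ) :
    ev x y (sletter wa wb l) = cols (ev x y wa) (ev x y wb) l := by
  rcases l with _ | _ | _ | _ | l <;> simp [sletter, cols, ev_invw, ev_nil]

theorem ev_subst (x y : K) (wa wb : List ℕ) (w : List ℕ) :
    ev x y (subst wa wb w) = ev (ev x y wa) (ev x y wb) w := by
  induction w with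
  | nil => rfl
  | cons l w ih => rw [subst, ev_append, ih, ev_cons, ev_sletter]

/-- power of a word -/
def poww (w : List ℕ) : ℕ → List ℕ
  | 0 => []
  | n + 1 => w ++ poww w n

theorem ev_poww (x y : K) (w : List ℕ) (n : ℕ) : ev x y (poww w n) = ev x y w ^ n := by
  induction n with
  | zero => simp [poww, ev_nil]
  | succ n ih => rw [poww, ev_append, ih, pow_succ']

/-- conjugate of a word -/
def conjw (c w : List ℕ) : List ℕ := c ++ w ++ invw c

theorem ev_conjw (x y : K) (c w : List ℕ) :
    ev x y (conjw c w) = ev x y c * ev x y w * (ev x y c)⁻¹ := by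
  rw [conjw, ev_append, ev_append, ev_invw]

theorem cols_mem_closure (x y : K) (l : ℕ) : cols x y l ∈ Subgroup.closure ({x, y} : Set K) := by
  have hx : x ∈ Subgroup.closure ({x, y} : Set K) := Subgroup.subset_closure (by simp)
  have hy : y ∈ Subgroup.closure ({x, y} : Set K) := Subgroup.subset_closure (by simp)
  rcases l with _ | _ | _ | _ | l
  · exact hx
  · exact inv_mem hx
  · exact hy
  · exact inv_mem hy
  · exact one_mem _

theorem ev_mem_closure (x y : K) (w : List ℕ) : ev x y w ∈ Subgroup.closure ({x, y} : Set K) := by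
  induction w with
  | nil => exact one_mem _
  | cons l w ih => rw [ev_cons]; exact mul_mem (cols_mem_closure x y l) ih

/-- words in a subgroup -/
theorem coe_ev (H : Subgroup K) (x y : H) (w : List ℕ) : ((ev x y w : H) : K) = ev (x : K) (y : K) w := by
  induction w with
  | nil => rfl
  | cons l w ih =>
    rw [ev_cons, ev_cons, Subgroup.coe_mul, ih]
    congr 1
    rcases l with _ | _ | _ | _ | l <;> rfl

end Words

section Simple

variable {K : Type*} [Group K]

/-- every normal subgroup containing `z` is the whole group -/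
def Top (z : K) : Prop := ∀ N : Subgroup K, N.Normal → z ∈ N → N = ⊤

theorem top_conj {z : K} (c : K) (h : Top z) : Top (c * z * c⁻¹) := by
  intro N hN hz
  apply h N hN
  have := hN.conj_mem _ hz c⁻¹
  simpa [mul_assoc] using this

theorem top_mul_conj {z : K} (u : K) (h : Top (z * (u * z * u⁻¹))) : Top z := by
  intro N hN hz
  exact h N hN (N.mul_mem hz (hN.conj_mem z hz u))

theorem top_gens (a b : K) (hgen : Subgroup.closure ({a, b} : Set K) = ⊤) (ha : a ^ 2 = 1)
    (hb : b ^ 3 = 1) (hab : (a * b) ^ 7 = 1) : Top a ∧ Top b ∧ Top (a * b) := by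
  have key : ∀ N : Subgroup K, N.Normal → a ∈ N → b ∈ N → N = ⊤ := by
    intro N _ h1 h2
    rw [eq_top_iff, ← hgen, Subgroup.closure_le]
    rintro z (rfl | rfl)
    · exact h1
    · exact h2
  have hA : Top a := by
    intro N hN h1
    refine key N hN h1 ?_
    have e1 : (QuotientGroup.mk' N) a = 1 := (QuotientGroup.eq_one_iff a).2 h1
    have e2 : ((QuotientGroup.mk' N) b) ^ 7 = 1 := by
      have := congrArg (QuotientGroup.mk' N) hab
      rwa [map_pow, map_mul, e1, one_mul, map_one] at this
    have e3 : ((QuotientGroup.mk' N) b) ^ 3 = 1 := by rw [← map_pow, hb, map_one]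
    have e4 : (QuotientGroup.mk' N) b = 1 := by
      have : (QuotientGroup.mk' N) b = ((QuotientGroup.mk' N) b) ^ 7 *
          (((QuotientGroup.mk' N) b) ^ 3)⁻¹ * (((QuotientGroup.mk' N) b) ^ 3)⁻¹ := by group
      rw [this, e2, e3]; simp
    exact (QuotientGroup.eq_one_iff b).1 e4
  have hB : Top b := by
    intro N hN h2
    refine key N hN ?_ h2
    have e1 : (QuotientGroup.mk' N) b = 1 := (QuotientGroup.eq_one_iff b).2 h2
    have e2 : ((QuotientGroup.mk' N) a) ^ 7 = 1 := by
      have := congrArg (QuotientGroup.mk' N) hab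
      rwa [map_pow, map_mul, e1, mul_one, map_one] at this
    have e3 : ((QuotientGroup.mk' N) a) ^ 2 = 1 := by rw [← map_pow, ha, map_one]
    have e4 : (QuotientGroup.mk' N) a = 1 := by
      have : (QuotientGroup.mk' N) a = ((QuotientGroup.mk' N) a) ^ 7 *
          (((QuotientGroup.mk' N) a) ^ 2)⁻¹ * (((QuotientGroup.mk' N) a) ^ 2)⁻¹ *
          (((QuotientGroup.mk' N) a) ^ 2)⁻¹ := by group
      rw [this, e2, e3]; simp
    exact (QuotientGroup.eq_one_iff a).1 e4
  refine ⟨hA, hB, ?_⟩
  intro N hN h3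
  apply hA N hN
  have e1 : (QuotientGroup.mk' N) a * (QuotientGroup.mk' N) b = 1 := by
    rw [← map_mul]; exact (QuotientGroup.eq_one_iff _).2 h3
  have e2 : ((QuotientGroup.mk' N) a) ^ 2 = 1 := by rw [← map_pow, ha, map_one]
  have e3 : ((QuotientGroup.mk' N) b) ^ 3 = 1 := by rw [← map_pow, hb, map_one]
  have e4 : (QuotientGroup.mk' N) b = ((QuotientGroup.mk' N) a)⁻¹ := eq_inv_of_mul_eq_one_right e1
  rw [e4, inv_pow, inv_eq_one] at e3
  have e5 : (QuotientGroup.mk' N) a = 1 := by
    have : (QuotientGroup.mk' N) a = ((QuotientGroup.mk' N) a) ^ 3 *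
        (((QuotientGroup.mk' N) a) ^ 2)⁻¹ := by group
    rw [this, e2, e3]; simp
  exact (QuotientGroup.eq_one_iff a).1 e5

/-- all nontrivial elements of a subgroup of prime order generate the same normal closure -/
theorem top_zpowers {g : K} {p : ℕ} (hp : p.Prime) (hg : g ^ p = 1) (hg1 : g ≠ 1) (h : Top g) :
    ∀ z ∈ Subgroup.zpowers g, z ≠ 1 → Top z := by
  intro z hz hz1 N hN hzN
  apply h N hN
  have : Fact p.Prime := ⟨hp⟩
  have hog : orderOf g = p := orderOf_eq_prime hg hg1
  have hzp : z ^ p = 1 := by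
    obtain ⟨k, rfl⟩ := Subgroup.mem_zpowers_iff.1 hz
    rw [← zpow_natCast, ← zpow_mul, mul_comm, zpow_mul, zpow_natCast, hg, one_zpow]
  have hoz : orderOf z = p := orderOf_eq_prime hzp hz1
  have hle : Subgroup.zpowers z ≤ Subgroup.zpowers g := Subgroup.zpowers_le.2 hz
  have hfin : Finite (Subgroup.zpowers g) :=
    Nat.finite_of_card_ne_zero (by rw [Nat.card_zpowers, hog]; exact hp.ne_zero)
  have heq : Subgroup.zpowers z = Subgroup.zpowers g := by
    apply Subgroup.eq_of_le_of_card_ge hle
    rw [Nat.card_zpowers, Nat.card_zpowers, hog, hoz]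
  have : g ∈ Subgroup.zpowers z := by rw [heq]; exact Subgroup.mem_zpowers g
  exact (Subgroup.zpowers_le.2 hzN) this

/-- simplicity through Sylow subgroups all of whose nontrivial elements have full normal closure -/
theorem simple_of_sylow [Finite K] [Nontrivial K]
    (h : ∀ p : ℕ, p.Prime → p ∣ Nat.card K → ∃ (P : Subgroup K) (k : ℕ), Nat.card P = p ^ k ∧
      ¬ p ^ (k + 1) ∣ Nat.card K ∧ ∀ z ∈ P, z ≠ 1 → Top z) : IsSimpleGroup K := by
  refine ⟨fun N hN => ?_⟩
  by_cases hbot : N = ⊥
  · exact Or.inl hbot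
  right
  have hcard : Nat.card N ≠ 1 := by
    intro hc
    exact hbot (Subgroup.card_eq_one.1 hc)
  obtain ⟨p, hp, hpd⟩ := Nat.exists_prime_and_dvd hcard
  have : Fact p.Prime := ⟨hp⟩
  obtain ⟨z, hz⟩ := exists_prime_orderOf_dvd_card' p hpd
  have hpK : p ∣ Nat.card K := hpd.trans (Subgroup.card_subgroup_dvd_card N)
  obtain ⟨P, k, hPc, hPk, hPt⟩ := h p hp hpK
  -- `P` is a Sylow subgroup
  have hfac : (Nat.card K).factorization p = k := by
    have hK0 : Nat.card K ≠ 0 := Nat.card_pos.ne'
    have h1 : p ^ k ∣ Nat.card K := hPc ▸ Subgroup.card_subgroup_dvd_card P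
    have h2 := (hp.pow_dvd_iff_le_factorization hK0).1 h1
    have h3 : ¬ (k + 1 ≤ (Nat.card K).factorization p) :=
      fun hle => hPk ((hp.pow_dvd_iff_le_factorization hK0).2 hle)
    omega
  let S : Sylow p K := Sylow.ofCard P (by rw [hPc, hfac])
  have hSP : (S : Subgroup K) = P := rfl
  -- the element of order `p` of `N`
  have hzK : orderOf (z : K) = p := by rw [Subgroup.orderOf_coe]; exact hz
  have hpg : IsPGroup p (Subgroup.zpowers (z : K)) := by
    apply IsPGroup.of_card (n := 1)
    rw [Nat.card_zpowers, hzK, pow_one]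
  obtain ⟨Q, hQ⟩ := hpg.exists_le_sylow
  obtain ⟨g, hg⟩ := MulAction.exists_smul_eq K Q S
  have hzQ : (z : K) ∈ (Q : Subgroup K) := hQ (Subgroup.mem_zpowers _)
  have hconj : g * (z : K) * g⁻¹ ∈ P := by
    rw [← hSP, ← hg, Sylow.coe_subgroup_smul]
    exact ⟨(z : K), hzQ, rfl⟩
  have hne : g * (z : K) * g⁻¹ ≠ 1 := by
    intro e
    have : (z : K) = 1 := by
      have := congrArg (fun t => g⁻¹ * t * g) e
      simpa [mul_assoc] using this
    rw [this, orderOf_one] at hzK
    exact hp.one_lt.ne hzK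
  exact hPt _ hconj hne N hN (hN.conj_mem _ z.2 g)

end Simple

end Cfsg.Agent.Helper17.J1
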