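import Mathlib
import Cfsg.Agent.Helper17.TCUpper
import Cfsg.Agent.Helper17.TCD.J1L_Chk
import Cfsg.Agent.Helper17.TCD.L211_Chk
import Cfsg.Agent.Helper17.J1.Grp

/-!
# The order of a group satisfying the relations of `J₁` is at most 175560 (helper17)

Two certified coset enumerations: a subgroup `⟨a, v⟩` of index at most 266, which satisfies a
presentation of `L₂(11)` and therefore has order at most `60 * 11`.
-/

set_option autoImplicit false

namespace Cfsg.Agent.Helper17.J1

open Cfsg.Agent.Helper17.TC Cfsg.Agent.Helper17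

variable {K : Type*} [Group K]

theorem cols_ginv (a b : K) : ∀ x < 4, cols a b (getL [1, 0, 3, 2] x) = (cols a b x)⁻¹ := by
  intro x hx
  interval_cases x
  · rfl
  · show a = a⁻¹⁻¹
    rw [inv_inv]
  · rfl
  · show b = b⁻¹⁻¹
    rw [inv_inv]

theorem cols_gen (a b : K) (hgen : Subgroup.closure ({a, b} : Set K) = ⊤) :
    Subgroup.closure {y | ∃ x < 4, y = cols a b x} = ⊤ := by
  rw [eq_top_iff, ← hgen]
  apply Subgroup.closure_mono
  rintro z (rfl | rfl)
  · exact ⟨0, by decide, rfl⟩
  · exact ⟨2, by decide, rfl⟩

/-- the word of the second subgroup generator in the first enumeration -/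
def vabL : List ℕ := [3, 0, 3, 0, 2, 0, 3, 0, 2, 0, 3, 0, 2, 0, 2, 0, 3, 0, 3]

theorem card_le [Finite K] (a b v : K) (hgen : Subgroup.closure ({a, b} : Set K) = ⊤)
    (hR1 : ∀ r ∈ TCD.J1L.relsL, ev a b r = 1) (hv : ev a b vabL = v)
    (hR2 : ∀ r ∈ TCD.L211.relsL, ev a v r = 1) : Nat.card K ≤ 175560 := by
  -- the subgroup `H = ⟨a, v⟩`
  let H : Subgroup K := Subgroup.closure {a, v}
  have haH : a ∈ H := Subgroup.subset_closure (by simp)
  have hvH : v ∈ H := Subgroup.subset_closure (by simp)
  have h1 : H.index ≤ 266 := by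
    have := (index_le (c := TCD.J1L.cert) H (cols a b) TCD.J1L.checked (cols_gen a b hgen)
      (cols_ginv a b) hR1 ?_).2
    · exact this
    · intro w hw
      have hw' : w ∈ [[0], vabL] := hw
      simp only [List.mem_cons, List.not_mem_nil, or_false] at hw'
      rcases hw' with rfl | rfl
      · simpa [cols] using haH
      · have : (vabL.map (cols a b)).prod = v := hv
        rw [this]; exact hvH
  -- inside `H`
  let a' : H := ⟨a, haH⟩
  let v' : H := ⟨v, hvH⟩
  have hgen' : Subgroup.closure ({a', v'} : Set H) = ⊤ := by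
    have := Subgroup.closure_closure_coe_preimage (k := ({a, v} : Set K))
    convert this using 2
    ext z
    simp only [Set.mem_insert_iff, Set.mem_singleton_iff, Set.mem_preimage]
    constructor
    · rintro (rfl | rfl)
      · left; rfl
      · right; rfl
    · rintro (h | h)
      · left; exact Subtype.ext h
      · right; exact Subtype.ext h
  have hR2' : ∀ r ∈ TCD.L211.relsL, ev a' v' r = 1 := by
    intro r hr
    apply Subtype.ext
    rw [coe_ev]
    exact hR2 r hr
  let H' : Subgroup H := Subgroup.zpowers v'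
  have h2 : H'.index ≤ 60 := by
    have := (index_le (c := TCD.L211.cert) H' (cols a' v') TCD.L211.checked (cols_gen a' v' hgen')
      (cols_ginv a' v') hR2' ?_).2
    · exact this
    · intro w hw
      have hw' : w ∈ [[2]] := hw
      simp only [List.mem_cons, List.not_mem_nil, or_false] at hw'
      subst hw'
      have e : ([2].map (cols a' v')).prod = v' := by simp [cols]
      rw [e]
      exact Subgroup.mem_zpowers v'
  have hv11 : v' ^ 11 = 1 := by
    have := hR2' [2, 2, 2, 2, 2, 2, 2, 2, 2, 2, 2] (by simp [TCD.L211.relsL])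
    simpa [ev, cols, pow_succ, mul_assoc] using this
  have h3 : Nat.card H' ≤ 11 := by
    rw [Nat.card_zpowers]
    exact orderOf_le_of_pow_eq_one (by norm_num) hv11
  have h4 : Nat.card H ≤ 660 := by
    rw [← Subgroup.card_mul_index H']
    calc Nat.card H' * H'.index ≤ 11 * 60 := Nat.mul_le_mul h3 h2
      _ = 660 := by norm_num
  rw [← Subgroup.card_mul_index H]
  calc Nat.card H * H.index ≤ 660 * 266 := Nat.mul_le_mul h4 h1
    _ = 175560 := by norm_num

end Cfsg.Agent.Helper17.J1
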