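import Mathlib

/-!
# Words for the Janko group `J₁` (helper17; generated)

Letters: `0 = x`, `1 = x⁻¹`, `2 = y`, `3 = y⁻¹`.
-/

set_option autoImplicit false

namespace Cfsg.Agent.Helper17.J1

/-- the involution `a` -/
def wa : List ℕ := [0, 0, 2, 1, 2, 1, 3]

/-- the element `b` of order 3 -/
def wb : List ℕ := [1, 2, 0, 0, 2, 0, 0, 2]

/-- `x` as a word in `a`, `b` -/
def wxab : List ℕ := [2, 0, 2, 0, 2, 0, 3, 0, 2, 0, 3, 0, 2, 0, 2, 0]

/-- `y` as a word in `a`, `b` -/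
def wyab : List ℕ := [0, 3, 0, 2, 0, 3, 0, 3, 0, 2, 0, 2, 0, 3, 0, 2, 0, 3, 0, 2, 0, 3, 0, 2, 0, 3, 0, 3, 0, 2, 0, 3, 0, 2, 0, 2]

/-- an element `v` of order 11 as a word in `a`, `b` -/
def vab : List ℕ := [3, 0, 3, 0, 2, 0, 3, 0, 2, 0, 3, 0, 2, 0, 2, 0, 3, 0, 3]

/-- the element `v` -/
def wv : List ℕ := [2, 0, 2, 1, 2, 1]

/-- an element of order 19 -/
def w19 : List ℕ := [0, 3]

/-- second involution of a Sylow 2-subgroup -/
def wt2 : List ℕ := [3, 0, 3, 0, 2, 2]

/-- third involution of a Sylow 2-subgroup -/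
def wt3 : List ℕ := [0, 2, 2, 0, 2, 2, 0, 0, 2, 1, 2, 0]

/-- certificate for the prime 5 -/
def u5 : List ℕ := [0, 0, 0, 2, 0, 2, 2, 0]

/-- certificate for the prime 5 -/
def k5 : List ℕ := [3, 0, 3]

/-- certificate for the prime 11 -/
def u11 : List ℕ := [2, 0, 3]

/-- certificate for the prime 11 -/
def k11 : List ℕ := [3, 1, 2, 0, 0, 2, 2, 0]

/-- certificate for the prime 19 -/
def u19 : List ℕ := [1, 2, 0, 0, 2]

/-- certificate for the prime 19 -/
def k19 : List ℕ := [1, 3, 3, 1, 2, 0, 2, 0]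

/-- a word or nothing -/
def bw : Bool → List ℕ → List ℕ
  | true, w => w
  | false, _ => []

/-- the elements of a Sylow 2-subgroup -/
def p2w (s : Bool × Bool × Bool) : List ℕ := bw s.1 wa ++ bw s.2.1 wt2 ++ bw s.2.2 wt3

/-- conjugating words for the involutions of the Sylow 2-subgroup -/
def p2c : Bool × Bool × Bool → List ℕ
  | (false, false, true) => [2, 0, 2]
  | (false, true, false) => [1, 2, 2, 0, 0, 2, 0]
  | (false, true, true) => [0, 2, 2, 0, 2, 1]
  | (true, false, false) => []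
  | (true, false, true) => [3, 1, 3, 3, 0, 3]
  | (true, true, false) => [0, 3, 1, 3, 3, 1]
  | (true, true, true) => [3, 0, 2, 1, 3, 3, 0]
  | (false, false, false) => []

end Cfsg.Agent.Helper17.J1
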