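import Mathlib
import Cfsg.Agent.Helper17.J1.Upper
import Cfsg.Agent.Helper17.J1.Words

/-!
# Recognition of `J₁` from finitely many word identities (helper17)

A finite group generated by `x`, `y` in which the word identities of `Data` hold is simple of
order 175560.
-/

set_option autoImplicit false

namespace Cfsg.Agent.Helper17.J1

open Cfsg.Agent.Helper17.TC Cfsg.Agent.Helper17

variable {K : Type*} [Group K]

/-- componentwise exclusive or -/
def bxor3 (s t : Bool × Bool × Bool) : Bool × Bool × Bool :=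
  (xor s.1 t.1, xor s.2.1 t.2.1, xor s.2.2 t.2.2)

/-- the word identities -/
structure Data (x y : K) : Prop where
  gx : ev x y (subst wa wb wxab) = ev x y [0]
  gy : ev x y (subst wa wb wyab) = ev x y [2]
  r1 : ∀ r ∈ TCD.J1L.relsL, ev x y (subst wa wb r) = ev x y []
  vv : ev x y (subst wa wb vabL) = ev x y wv
  r2 : ∀ r ∈ TCD.L211.relsL, ev x y (subst wa wv r) = ev x y []
  y5 : ev x y (poww [2] 5) = ev x y []
  g19 : ev x y (poww w19 19) = ev x y []
  ne : ∀ w ∈ [[2], w19, wv, wa ++ wb, wb], ev x y w ≠ ev x y []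
  p2mul : ∀ s t : Bool × Bool × Bool, ev x y (p2w s ++ p2w t) = ev x y (p2w (bxor3 s t))
  p2ne : ∀ s : Bool × Bool × Bool, s ≠ (false, false, false) → ev x y (p2w s) ≠ ev x y []
  p2conj : ∀ s : Bool × Bool × Bool, s ≠ (false, false, false) →
    ev x y (p2w s) = ev x y (conjw (p2c s) wa)
  c5 : ev x y ([2] ++ conjw u5 [2]) = ev x y (conjw k5 wa)
  c11 : ev x y (wv ++ conjw u11 wv) = ev x y (conjw k11 wa)
  c19 : ev x y (w19 ++ conjw u19 w19) = ev x y (conjw k19 wa)

theorem prime_dvd_cases {p : ℕ} (hp : p.Prime) (h : p ∣ 175560) :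
    p = 2 ∨ p = 3 ∨ p = 5 ∨ p = 7 ∨ p = 11 ∨ p = 19 := by
  have e : (175560 : ℕ) = 2 ^ 3 * (3 * (5 * (7 * (11 * 19)))) := by norm_num
  rw [e] at h
  rcases (Nat.Prime.dvd_mul hp).1 h with h | h
  · left; exact (Nat.prime_dvd_prime_iff_eq hp Nat.prime_two).1 (hp.dvd_of_dvd_pow h)
  rcases (Nat.Prime.dvd_mul hp).1 h with h | h
  · right; left; exact (Nat.prime_dvd_prime_iff_eq hp Nat.prime_three).1 h
  rcases (Nat.Prime.dvd_mul hp).1 h with h | h
  · right; right; left; exact (Nat.prime_dvd_prime_iff_eq hp Nat.prime_five).1 h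
  rcases (Nat.Prime.dvd_mul hp).1 h with h | h
  · right; right; right; left; exact (Nat.prime_dvd_prime_iff_eq hp (by norm_num)).1 h
  rcases (Nat.Prime.dvd_mul hp).1 h with h | h
  · right; right; right; right; left; exact (Nat.prime_dvd_prime_iff_eq hp (by norm_num)).1 h
  · right; right; right; right; right; exact (Nat.prime_dvd_prime_iff_eq hp (by norm_num)).1 h

theorem prime_dvd_card [Finite K] {g : K} {p : ℕ} (hp : p.Prime) (hg : g ^ p = 1) (hg1 : g ≠ 1) :
    p ∣ Nat.card K := by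
  have : Fact p.Prime := ⟨hp⟩
  rw [← orderOf_eq_prime hg hg1]
  exact orderOf_dvd_natCard g

theorem card_zpowers_prime {g : K} {p : ℕ} (hp : p.Prime) (hg : g ^ p = 1) (hg1 : g ≠ 1) :
    Nat.card (Subgroup.zpowers g) = p ^ 1 := by
  have : Fact p.Prime := ⟨hp⟩
  rw [Nat.card_zpowers, orderOf_eq_prime hg hg1, pow_one]

/-- the elementary abelian subgroup of order 8 -/
theorem exists_p2 (f : Bool × Bool × Bool → K) (h0 : f (false, false, false) = 1)
    (hmul : ∀ s t, f s * f t = f (bxor3 s t))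
    (hne : ∀ s, s ≠ (false, false, false) → f s ≠ 1) :
    ∃ P : Subgroup K, Nat.card P = 2 ^ 3 ∧ ∀ z ∈ P, z ≠ 1 → ∃ s, s ≠ (false, false, false) ∧ z = f s := by
  have hsq : ∀ s, f s * f s = 1 := by
    intro s
    rw [hmul, ← h0]
    congr 1
    have key : ∀ s : Bool × Bool × Bool, bxor3 s s = (false, false, false) := by decide
    exact key s
  have hinj : Function.Injective f := by
    intro s t e
    by_contra hst
    have h1 : bxor3 s t ≠ (false, false, false) := by
      have key : ∀ s t : Bool × Bool × Bool, s ≠ t → bxor3 s t ≠ (false, false, false) := by decide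
      exact key s t hst
    apply hne _ h1
    rw [← hmul, e, hsq]
  let P : Subgroup K :=
    { carrier := Set.range f
      mul_mem' := by
        rintro _ _ ⟨s, rfl⟩ ⟨t, rfl⟩
        exact ⟨bxor3 s t, (hmul s t).symm⟩
      one_mem' := ⟨_, h0⟩
      inv_mem' := by
        rintro _ ⟨s, rfl⟩
        exact ⟨s, (inv_eq_of_mul_eq_one_left (hsq s)).symm⟩ }
  refine ⟨P, ?_, ?_⟩
  · have : Nat.card P = Nat.card (Set.range f) := rfl
    rw [this, Nat.card_range_of_injective hinj, Nat.card_eq_fintype_card]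
    rfl
  · rintro _ ⟨s, rfl⟩ hz
    refine ⟨s, ?_, rfl⟩
    rintro rfl
    exact hz h0

theorem main [Finite K] (x y : K) (hgen : Subgroup.closure ({x, y} : Set K) = ⊤) (D : Data x y) :
    IsSimpleGroup K ∧ Nat.card K = 175560 := by
  set a := ev x y wa with ha
  set b := ev x y wb with hb
  set v := ev x y wv with hv
  have hx : ev x y [0] = x := by simp [ev, cols]
  have hy : ev x y [2] = y := by simp [ev, cols]
  -- generation by `a`, `b`
  have hgen' : Subgroup.closure ({a, b} : Set K) = ⊤ := by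
    rw [eq_top_iff, ← hgen, Subgroup.closure_le]
    rintro z (rfl | rfl)
    · have := D.gx
      rw [ev_subst, hx] at this
      rw [← this]
      exact ev_mem_closure _ _ _
    · have := D.gy
      rw [ev_subst, hy] at this
      rw [← this]
      exact ev_mem_closure _ _ _
  have hR1 : ∀ r ∈ TCD.J1L.relsL, ev a b r = 1 := by
    intro r hr
    have := D.r1 r hr
    rwa [ev_subst, ev_nil] at this
  have hvab : ev a b vabL = v := by
    have := D.vv
    rwa [ev_subst] at this
  have hR2 : ∀ r ∈ TCD.L211.relsL, ev a v r = 1 := by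
    intro r hr
    have := D.r2 r hr
    rwa [ev_subst, ev_nil] at this
  have hle : Nat.card K ≤ 175560 := card_le a b v hgen' hR1 hvab hR2
  -- relations
  have ha2 : a ^ 2 = 1 := by
    have := hR1 [0, 0] (by simp [TCD.J1L.relsL])
    simpa [ev, cols, pow_succ] using this
  have hb3 : b ^ 3 = 1 := by
    have := hR1 [2, 2, 2] (by simp [TCD.J1L.relsL])
    simpa [ev, cols, pow_succ, mul_assoc] using this
  have hab7 : (a * b) ^ 7 = 1 := by
    have := hR1 [0, 2, 0, 2, 0, 2, 0, 2, 0, 2, 0, 2, 0, 2] (by simp [TCD.J1L.relsL])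
    simpa [ev, cols, pow_succ, mul_assoc] using this
  have hv11 : v ^ 11 = 1 := by
    have := hR2 [2, 2, 2, 2, 2, 2, 2, 2, 2, 2, 2] (by simp [TCD.L211.relsL])
    simpa [ev, cols, pow_succ, mul_assoc] using this
  have hy5 : y ^ 5 = 1 := by
    have := D.y5
    rwa [ev_poww, hy, ev_nil] at this
  set g := ev x y w19 with hg
  have hg19 : g ^ 19 = 1 := by
    have := D.g19
    rwa [ev_poww, ev_nil] at this
  have hy1 : y ≠ 1 := by
    have := D.ne [2] (by simp)
    rwa [hy, ev_nil] at this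
  have hg1 : g ≠ 1 := by
    have := D.ne w19 (by simp)
    rwa [ev_nil] at this
  have hv1 : v ≠ 1 := by
    have := D.ne wv (by simp)
    rwa [ev_nil] at this
  have hab1 : a * b ≠ 1 := by
    have := D.ne (wa ++ wb) (by simp)
    rwa [ev_append, ev_nil] at this
  have hb1 : b ≠ 1 := by
    have := D.ne wb (by simp)
    rwa [ev_nil] at this
  -- the Sylow 2-subgroup
  obtain ⟨P2, hP2c, hP2e⟩ := exists_p2 (fun s => ev x y (p2w s)) rfl
    (fun s t => by rw [← ev_append]; exact D.p2mul s t)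
    (fun s hs => by have := D.p2ne s hs; rwa [ev_nil] at this)
  -- the order
  have hp2 : Nat.Prime 2 := Nat.prime_two
  have hp3 : Nat.Prime 3 := Nat.prime_three
  have hp5 : Nat.Prime 5 := Nat.prime_five
  have hp7 : Nat.Prime 7 := by norm_num
  have hp11 : Nat.Prime 11 := by norm_num
  have hp19 : Nat.Prime 19 := by norm_num
  have hdvd : 175560 ∣ Nat.card K := by
    have d8 : 2 ^ 3 ∣ Nat.card K := hP2c ▸ Subgroup.card_subgroup_dvd_card P2
    have d3 : 3 ∣ Nat.card K := prime_dvd_card hp3 hb3 hb1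
    have d5 : 5 ∣ Nat.card K := prime_dvd_card hp5 hy5 hy1
    have d7 : 7 ∣ Nat.card K := prime_dvd_card hp7 hab7 hab1
    have d11 : 11 ∣ Nat.card K := prime_dvd_card hp11 hv11 hv1
    have d19 : 19 ∣ Nat.card K := prime_dvd_card hp19 hg19 hg1
    have e1 : 11 * 19 ∣ Nat.card K := Nat.Coprime.mul_dvd_of_dvd_of_dvd (by norm_num) d11 d19
    have e2 : 7 * (11 * 19) ∣ Nat.card K := Nat.Coprime.mul_dvd_of_dvd_of_dvd (by norm_num) d7 e1
    have e3 : 5 * (7 * (11 * 19)) ∣ Nat.card K :=
      Nat.Coprime.mul_dvd_of_dvd_of_dvd (by norm_num) d5 e2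
    have e4 : 3 * (5 * (7 * (11 * 19))) ∣ Nat.card K :=
      Nat.Coprime.mul_dvd_of_dvd_of_dvd (by norm_num) d3 e3
    have e5 : 2 ^ 3 * (3 * (5 * (7 * (11 * 19)))) ∣ Nat.card K :=
      Nat.Coprime.mul_dvd_of_dvd_of_dvd (by norm_num) d8 e4
    have e : (175560 : ℕ) = 2 ^ 3 * (3 * (5 * (7 * (11 * 19)))) := by norm_num
    rw [e]; exact e5
  have hcard : Nat.card K = 175560 :=
    le_antisymm hle (Nat.le_of_dvd Nat.card_pos hdvd)
  refine ⟨?_, hcard⟩
  -- simplicity
  have hnt : Nontrivial K := by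
    rw [← Finite.one_lt_card_iff_nontrivial, hcard]; norm_num
  obtain ⟨hTa, hTb, hTab⟩ := top_gens a b hgen' ha2 hb3 hab7
  have hTy : Top y := by
    apply top_mul_conj (ev x y u5)
    have := D.c5
    rw [ev_append, ev_conjw, ev_conjw, hy] at this
    rw [this]
    exact top_conj _ hTa
  have hTv : Top v := by
    apply top_mul_conj (ev x y u11)
    have := D.c11
    rw [ev_append, ev_conjw, ev_conjw] at this
    rw [this]
    exact top_conj _ hTa
  have hTg : Top g := by
    apply top_mul_conj (ev x y u19)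
    have := D.c19
    rw [ev_append, ev_conjw, ev_conjw] at this
    rw [this]
    exact top_conj _ hTa
  apply simple_of_sylow
  intro p hp hpd
  rw [hcard] at hpd ⊢
  rcases prime_dvd_cases hp hpd with rfl | rfl | rfl | rfl | rfl | rfl
  · refine ⟨P2, 3, hP2c, by norm_num, ?_⟩
    intro z hz hz1
    obtain ⟨s, hs, rfl⟩ := hP2e z hz hz1
    show Top (ev x y (p2w s))
    rw [D.p2conj s hs, ev_conjw]
    exact top_conj _ hTa
  · exact ⟨Subgroup.zpowers b, 1, card_zpowers_prime hp hb3 hb1, by norm_num,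
      top_zpowers hp hb3 hb1 hTb⟩
  · exact ⟨Subgroup.zpowers y, 1, card_zpowers_prime hp hy5 hy1, by norm_num,
      top_zpowers hp hy5 hy1 hTy⟩
  · exact ⟨Subgroup.zpowers (a * b), 1, card_zpowers_prime hp hab7 hab1, by norm_num,
      top_zpowers hp hab7 hab1 hTab⟩
  · exact ⟨Subgroup.zpowers v, 1, card_zpowers_prime hp hv11 hv1, by norm_num,
      top_zpowers hp hv11 hv1 hTv⟩
  · exact ⟨Subgroup.zpowers g, 1, card_zpowers_prime hp hg19 hg1, by norm_num,
      top_zpowers hp hg19 hg1 hTg⟩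

end Cfsg.Agent.Helper17.J1
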