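import Mathlib
import Cfsg.Agent.Helper17.TC

/-!
# Fast kernel arithmetic for 7 × 7 matrices over `ZMod 11` (helper17)

Matrices are stored as structures of natural numbers; products are computed in continuation
passing style with every entry forced, so that the kernel only ever sees literals.
-/

set_option autoImplicit false

namespace Cfsg.Agent.Helper17.J1

open Cfsg.Agent.Helper17.TC (force force_eq)

/-- a row of seven numbers -/
structure V7 where
  x0 : ℕ
  x1 : ℕ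
  x2 : ℕ
  x3 : ℕ
  x4 : ℕ
  x5 : ℕ
  x6 : ℕ

/-- seven rows -/
structure M7 where
  r0 : V7
  r1 : V7
  r2 : V7
  r3 : V7
  r4 : V7
  r5 : V7
  r6 : V7

/-- dot product modulo 11 -/
def dot (a b : V7) : ℕ :=
  Nat.mod (Nat.add (Nat.mul a.x0 b.x0) (Nat.add (Nat.mul a.x1 b.x1) (Nat.add (Nat.mul a.x2 b.x2) (Nat.add (Nat.mul a.x3 b.x3) (Nat.add (Nat.mul a.x4 b.x4) (Nat.add (Nat.mul a.x5 b.x5) (Nat.mul a.x6 b.x6))))))) 11

theorem dot_eq (a b : V7) : dot a b =
    (a.x0 * b.x0 + (a.x1 * b.x1 + (a.x2 * b.x2 + (a.x3 * b.x3 + (a.x4 * b.x4 + (a.x5 * b.x5 + (a.x6 * b.x6))))))) % 11 := rfl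

/-- a row times the transpose of a matrix -/
def rowT (a : V7) (bt : M7) : V7 :=
  ⟨dot a bt.r0, dot a bt.r1, dot a bt.r2, dot a bt.r3, dot a bt.r4, dot a bt.r5, dot a bt.r6⟩

/-- `a * btᵀ` -/
def mulT (a bt : M7) : M7 :=
  ⟨rowT a.r0 bt, rowT a.r1 bt, rowT a.r2 bt, rowT a.r3 bt, rowT a.r4 bt, rowT a.r5 bt, rowT a.r6 bt⟩

/-- strict version of `rowT` -/
def rowTK {α : Type} (a : V7) (bt : M7) (k : V7 → α) : α :=
  force (dot a bt.r0) fun c0 =>
  force (dot a bt.r1) fun c1 =>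
  force (dot a bt.r2) fun c2 =>
  force (dot a bt.r3) fun c3 =>
  force (dot a bt.r4) fun c4 =>
  force (dot a bt.r5) fun c5 =>
  force (dot a bt.r6) fun c6 =>
  k ⟨c0, c1, c2, c3, c4, c5, c6⟩

theorem rowTK_eq {α : Type} (a : V7) (bt : M7) (k : V7 → α) : rowTK a bt k = k (rowT a bt) := by
  simp only [rowTK, force_eq, rowT]

/-- strict version of `mulT` -/
def mulTK {α : Type} (a bt : M7) (k : M7 → α) : α :=
  rowTK a.r0 bt fun s0 =>
  rowTK a.r1 bt fun s1 =>
  rowTK a.r2 bt fun s2 =>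
  rowTK a.r3 bt fun s3 =>
  rowTK a.r4 bt fun s4 =>
  rowTK a.r5 bt fun s5 =>
  rowTK a.r6 bt fun s6 =>
  k ⟨s0, s1, s2, s3, s4, s5, s6⟩

theorem mulTK_eq {α : Type} (a bt : M7) (k : M7 → α) : mulTK a bt k = k (mulT a bt) := by
  simp only [mulTK, rowTK_eq, mulT]

/-- entry of a row -/
def V7.get (v : V7) : Fin 7 → ℕ := ![v.x0, v.x1, v.x2, v.x3, v.x4, v.x5, v.x6]

/-- row of a matrix -/
def M7.row (m : M7) : Fin 7 → V7 := ![m.r0, m.r1, m.r2, m.r3, m.r4, m.r5, m.r6]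

/-- the matrix over `ZMod 11` -/
def toMat (m : M7) : Matrix (Fin 7) (Fin 7) (ZMod 11) :=
  Matrix.of fun i j => (((m.row i).get j : ℕ) : ZMod 11)

theorem toMat_apply (m : M7) (i j : Fin 7) : toMat m i j = (((m.row i).get j : ℕ) : ZMod 11) := rfl

theorem dot_cast (a b : V7) : ((dot a b : ℕ) : ZMod 11) = ∑ k : Fin 7, (a.get k : ZMod 11) * (b.get k : ZMod 11) := by
  rw [dot_eq, ZMod.natCast_mod, Fin.sum_univ_seven]
  simp only [V7.get]
  push_cast
  ring

theorem rowT_get (a : V7) (bt : M7) (j : Fin 7) : (rowT a bt).get j = dot a (bt.row j) := by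
  fin_cases j <;> rfl

theorem mulT_row (a bt : M7) (i : Fin 7) : (mulT a bt).row i = rowT (a.row i) bt := by
  fin_cases i <;> rfl

theorem toMat_mulT (a bt : M7) : toMat (mulT a bt) = toMat a * (toMat bt).transpose := by
  ext i j
  rw [toMat_apply, mulT_row, rowT_get, dot_cast, Matrix.mul_apply]
  rfl

/-- the identity -/
def one7 : M7 :=
  ⟨⟨1, 0, 0, 0, 0, 0, 0⟩, ⟨0, 1, 0, 0, 0, 0, 0⟩, ⟨0, 0, 1, 0, 0, 0, 0⟩, ⟨0, 0, 0, 1, 0, 0, 0⟩, ⟨0, 0, 0, 0, 1, 0, 0⟩, ⟨0, 0, 0, 0, 0, 1, 0⟩, ⟨0, 0, 0, 0, 0, 0, 1⟩⟩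

theorem toMat_one7 : toMat one7 = 1 := by
  ext i j
  fin_cases i <;> fin_cases j <;> rfl

/-- equality of all entries -/
def V7.beq (a b : V7) : Bool :=
  Nat.beq a.x0 b.x0 && Nat.beq a.x1 b.x1 && Nat.beq a.x2 b.x2 && Nat.beq a.x3 b.x3 && Nat.beq a.x4 b.x4 && Nat.beq a.x5 b.x5 && Nat.beq a.x6 b.x6

def M7.beq (a b : M7) : Bool :=
  V7.beq a.r0 b.r0 && V7.beq a.r1 b.r1 && V7.beq a.r2 b.r2 && V7.beq a.r3 b.r3 && V7.beq a.r4 b.r4 && V7.beq a.r5 b.r5 && V7.beq a.r6 b.r6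

theorem V7.eq_of_beq {a b : V7} (h : V7.beq a b = true) : a = b := by
  cases a; cases b
  simp only [V7.beq, Bool.and_eq_true] at h
  simp only [V7.mk.injEq]
  exact ⟨Nat.eq_of_beq_eq_true h.1.1.1.1.1.1, Nat.eq_of_beq_eq_true h.1.1.1.1.1.2, Nat.eq_of_beq_eq_true h.1.1.1.1.2,
    Nat.eq_of_beq_eq_true h.1.1.1.2, Nat.eq_of_beq_eq_true h.1.1.2, Nat.eq_of_beq_eq_true h.1.2, Nat.eq_of_beq_eq_true h.2⟩

theorem M7.eq_of_beq {a b : M7} (h : M7.beq a b = true) : a = b := by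
  cases a; cases b
  simp only [M7.beq, Bool.and_eq_true] at h
  simp only [M7.mk.injEq]
  refine ⟨V7.eq_of_beq h.1.1.1.1.1.1, V7.eq_of_beq h.1.1.1.1.1.2, V7.eq_of_beq h.1.1.1.1.2, V7.eq_of_beq h.1.1.1.2,
    V7.eq_of_beq h.1.1.2, V7.eq_of_beq h.1.2, V7.eq_of_beq h.2⟩

/-- some entry differs modulo 11 -/
def M7.neb (a b : M7) : Bool :=
  decide (∃ i j : Fin 7, (a.row i).get j % 11 ≠ (b.row i).get j % 11)

theorem toMat_ne {a b : M7} (h : M7.neb a b = true) : toMat a ≠ toMat b := by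
  simp only [M7.neb, decide_eq_true_eq] at h
  obtain ⟨i, j, hij⟩ := h
  intro e
  apply hij
  have := congrFun (congrFun e i) j
  rw [toMat_apply, toMat_apply] at this
  exact (ZMod.natCast_eq_natCast_iff' _ _ _).1 this

section Words

variable (gT : ℕ → M7)

/-- product of the letters of a word, starting from `acc` -/
def evalP : List ℕ → M7 → M7
  | [], acc => acc
  | l :: w, acc => evalP w (mulT acc (gT l))

/-- strict version of `evalP` -/
def evalK {α : Type} : List ℕ → M7 → (M7 → α) → α :=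
  fun w => List.rec (motive := fun _ => M7 → (M7 → α) → α) (fun acc k => k acc)
    (fun l _ ih acc k => mulTK acc (gT l) (fun acc' => ih acc' k)) w

theorem evalK_eq {α : Type} (w : List ℕ) (acc : M7) (k : M7 → α) :
    evalK gT w acc k = k (evalP gT w acc) := by
  induction w generalizing acc with
  | nil => rfl
  | cons l w ih =>
    show mulTK acc (gT l) (fun acc' => evalK gT w acc' k) = _
    rw [mulTK_eq, ih]
    rfl

/-- the two words have the same value -/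
def chkEq (w w' : List ℕ) : Bool :=
  evalK gT w one7 fun m => evalK gT w' one7 fun m' => M7.beq m m'

/-- the two words have different values -/
def chkNe (w w' : List ℕ) : Bool :=
  evalK gT w one7 fun m => evalK gT w' one7 fun m' => M7.neb m m'

variable {gT}

theorem evalP_spec {G : Type*} [Monoid G] (φ : G →* Matrix (Fin 7) (Fin 7) (ZMod 11)) (g : ℕ → G)
    (hg : ∀ l, (toMat (gT l)).transpose = φ (g l)) (w : List ℕ) (acc : M7) :
    toMat (evalP gT w acc) = toMat acc * φ (w.map g).prod := by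
  induction w generalizing acc with
  | nil => simp [evalP]
  | cons l w ih =>
    rw [evalP, ih, toMat_mulT, hg, List.map_cons, List.prod_cons, map_mul, mul_assoc]

theorem word_eq {G : Type*} [Monoid G] (φ : G →* Matrix (Fin 7) (Fin 7) (ZMod 11))
    (hφ : Function.Injective φ) (g : ℕ → G)
    (hg : ∀ l, (toMat (gT l)).transpose = φ (g l)) {w w' : List ℕ} (h : chkEq gT w w' = true) :
    (w.map g).prod = (w'.map g).prod := by
  apply hφ
  simp only [chkEq, evalK_eq] at h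
  have h1 := evalP_spec φ g hg w one7
  have h2 := evalP_spec φ g hg w' one7
  rw [toMat_one7, one_mul] at h1 h2
  rw [← h1, ← h2, M7.eq_of_beq h]

theorem word_ne {G : Type*} [Monoid G] (φ : G →* Matrix (Fin 7) (Fin 7) (ZMod 11)) (g : ℕ → G)
    (hg : ∀ l, (toMat (gT l)).transpose = φ (g l)) {w w' : List ℕ} (h : chkNe gT w w' = true) :
    (w.map g).prod ≠ (w'.map g).prod := by
  intro e
  simp only [chkNe, evalK_eq] at h
  have h1 := evalP_spec φ g hg w one7
  have h2 := evalP_spec φ g hg w' one7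
  rw [toMat_one7, one_mul] at h1 h2
  apply toMat_ne h
  rw [h1, h2, e]

end Words

end Cfsg.Agent.Helper17.J1
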