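import Mathlib
import Cfsg.Prelude.Def_Spor_J1
import Cfsg.Agent.Helper17.J1.Mat
import Cfsg.Agent.Helper17.J1.Main

/-!
# The matrix group `J₁` is simple of order 175560 (helper17)
-/

set_option autoImplicit false

namespace Cfsg.Agent.Helper17.J1

open Cfsg Cfsg.Spor Cfsg.Agent.Helper17

/-- transpose of `jankoMatrixX` -/
def XT : M7 := ⟨⟨0, 0, 0, 0, 0, 0, 1⟩, ⟨1, 0, 0, 0, 0, 0, 0⟩, ⟨0, 1, 0, 0, 0, 0, 0⟩, ⟨0, 0, 1, 0, 0, 0, 0⟩, ⟨0, 0, 0, 1, 0, 0, 0⟩, ⟨0, 0, 0, 0, 1, 0, 0⟩, ⟨0, 0, 0, 0, 0, 1, 0⟩⟩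

/-- `jankoMatrixX` -/
def XM : M7 := ⟨⟨0, 1, 0, 0, 0, 0, 0⟩, ⟨0, 0, 1, 0, 0, 0, 0⟩, ⟨0, 0, 0, 1, 0, 0, 0⟩, ⟨0, 0, 0, 0, 1, 0, 0⟩, ⟨0, 0, 0, 0, 0, 1, 0⟩, ⟨0, 0, 0, 0, 0, 0, 1⟩, ⟨1, 0, 0, 0, 0, 0, 0⟩⟩

/-- transpose of `jankoMatrixY` -/
def YT : M7 := ⟨⟨8, 9, 10, 10, 8, 1, 3⟩, ⟨2, 1, 10, 8, 10, 3, 3⟩, ⟨10, 1, 8, 10, 8, 3, 9⟩, ⟨10, 3, 10, 8, 8, 9, 1⟩, ⟨8, 1, 8, 8, 2, 1, 1⟩, ⟨10, 3, 8, 2, 10, 1, 3⟩, ⟨8, 3, 2, 10, 10, 3, 1⟩⟩

/-- `jankoMatrixY` -/
def YM : M7 := ⟨⟨8, 2, 10, 10, 8, 10, 8⟩, ⟨9, 1, 1, 3, 1, 3, 3⟩, ⟨10, 10, 8, 10, 8, 8, 2⟩, ⟨10, 8, 10, 8, 8, 2, 10⟩, ⟨8, 10, 8, 8, 2, 10, 10⟩, ⟨1, 3, 3, 9, 1, 1, 3⟩, ⟨3, 3, 9, 1, 1, 3, 1⟩⟩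

/-- transposes of the matrices of the four letters -/
def gT : ℕ → M7
  | 0 => XT
  | 1 => XM
  | 2 => YT
  | 3 => YM
  | _ => one7

/-- the generator `x` in the group `J₁` -/
def jx : Cfsg.Spor.J1 := ⟨jankoX, Subgroup.subset_closure (by simp)⟩

/-- the generator `y` in the group `J₁` -/
def jy : Cfsg.Spor.J1 := ⟨jankoY, Subgroup.subset_closure (by simp)⟩

/-- the matrix of an element of `J₁` -/
def toM : Cfsg.Spor.J1 →* Matrix (Fin 7) (Fin 7) (ZMod 11) :=
  (Units.coeHom _).comp (Subgroup.subtype _)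

theorem toM_inj : Function.Injective toM := by
  intro u v h
  apply Subtype.ext
  apply Units.ext
  exact h

theorem hgT : ∀ l, (toMat (gT l)).transpose = toM (cols jx jy l) := by
  intro l
  rcases l with _ | _ | _ | _ | l
  · show (toMat XT).transpose = jankoMatrixX
    decide
  · show (toMat XM).transpose = jankoMatrixX.transpose
    decide
  · show (toMat YT).transpose = jankoMatrixY
    decide
  · show (toMat YM).transpose = jankoMatrixY.transpose
    decide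
  · show (toMat one7).transpose = toM 1
    rw [map_one, toMat_one7, Matrix.transpose_one]

theorem ev_eq {w w' : List ℕ} (h : chkEq gT w w' = true) : ev jx jy w = ev jx jy w' :=
  word_eq toM toM_inj (cols jx jy) hgT h

theorem ev_ne {w w' : List ℕ} (h : chkNe gT w w' = true) : ev jx jy w ≠ ev jx jy w' :=
  word_ne toM (cols jx jy) hgT h

theorem gen_top : Subgroup.closure ({jx, jy} : Set Cfsg.Spor.J1) = ⊤ := by
  have h := Subgroup.closure_closure_coe_preimage (k := ({jankoX, jankoY} : Set (GL (Fin 7) (ZMod 11))))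
  have e : (((↑) : Subgroup.closure ({jankoX, jankoY} : Set (GL (Fin 7) (ZMod 11))) → GL (Fin 7) (ZMod 11)) ⁻¹'
      ({jankoX, jankoY} : Set (GL (Fin 7) (ZMod 11)))) = ({jx, jy} : Set Cfsg.Spor.J1) := by
    ext z
    simp only [Set.mem_insert_iff, Set.mem_singleton_iff, Set.mem_preimage]
    constructor
    · rintro (h | h)
      · left; exact Subtype.ext h
      · right; exact Subtype.ext h
    · rintro (rfl | rfl)
      · left; rfl
      · right; rfl
  rw [e] at h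
  exact h

set_option maxHeartbeats 0 in
theorem data : Data jx jy where
  gx := ev_eq (by decide +kernel)
  gy := ev_eq (by decide +kernel)
  r1 := by
    have h : (TCD.J1L.relsL.all fun r => chkEq gT (subst wa wb r) []) = true := by decide +kernel
    intro r hr
    exact ev_eq (List.all_eq_true.1 h r hr)
  vv := ev_eq (by decide +kernel)
  r2 := by
    have h : (TCD.L211.relsL.all fun r => chkEq gT (subst wa wv r) []) = true := by decide +kernel
    intro r hr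
    exact ev_eq (List.all_eq_true.1 h r hr)
  y5 := ev_eq (by decide +kernel)
  g19 := ev_eq (by decide +kernel)
  ne := by
    have h : ([[2], w19, wv, wa ++ wb, wb].all fun w => chkNe gT w []) = true := by decide +kernel
    intro w hw
    exact ev_ne (List.all_eq_true.1 h w hw)
  p2mul := by
    have h : ∀ s t : Bool × Bool × Bool, chkEq gT (p2w s ++ p2w t) (p2w (bxor3 s t)) = true := by
      decide +kernel
    intro s t
    exact ev_eq (h s t)
  p2ne := by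
    have h : ∀ s : Bool × Bool × Bool, s ≠ (false, false, false) → chkNe gT (p2w s) [] = true := by
      decide +kernel
    intro s hs
    exact ev_ne (h s hs)
  p2conj := by
    have h : ∀ s : Bool × Bool × Bool, s ≠ (false, false, false) →
        chkEq gT (p2w s) (conjw (p2c s) wa) = true := by
      decide +kernel
    intro s hs
    exact ev_eq (h s hs)
  c5 := ev_eq (by decide +kernel)
  c11 := ev_eq (by decide +kernel)
  c19 := ev_eq (by decide +kernel)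

instance : Finite Cfsg.Spor.J1 := inferInstance

/-- the Janko group `J₁` is simple of order 175560 -/
theorem J1_simple_card : IsSimpleGroup Cfsg.Spor.J1 ∧ Nat.card Cfsg.Spor.J1 = 175560 :=
  main jx jy gen_top data

end Cfsg.Agent.Helper17.J1
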