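import Mathlib
import Cfsg.Agent.Helper17.J1.Conc
import Cfsg.Agent.Helper17.J1.Data2

/-!
# Kernel checks: the conjugates of the involution `a` of `J₁` (helper17; generated)
-/

set_option autoImplicit false

namespace Cfsg.Agent.Helper17.J1

open Cfsg Cfsg.Spor Cfsg.Agent.Helper17

set_option maxHeartbeats 0 in
theorem incA_0 : incKB gT wa 51916345214665012921187683867759692557123941598902 (csA_0.map decodeW) 0 = true := by decide +kernel

set_option maxHeartbeats 0 in
theorem incA_1 : incKB gT wa 103681211580622320625078975755670854575848261234778 (csA_1.map decodeW) 51916345214665012921187683867759692557123941598902 = true := by decide +kernel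

set_option maxHeartbeats 0 in
theorem incA_2 : incKB gT wa 168468458627397702567046723062349310852801358113811 (csA_2.map decodeW) 103681211580622320625078975755670854575848261234778 = true := by decide +kernel

set_option maxHeartbeats 0 in
theorem incA_3 : incKB gT wa 266427139177521197346226190037019473452860951723339 (csA_3.map decodeW) 168468458627397702567046723062349310852801358113811 = true := by decide +kernel

set_option maxHeartbeats 0 in
theorem incA_4 : incKB gT wa 370648210496840533485190085958221310832582475557814 (csA_4.map decodeW) 266427139177521197346226190037019473452860951723339 = true := by decide +kernel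

set_option maxHeartbeats 0 in
theorem incA_5 : incKB gT wa 427693832253753834655068564430506128834708376941696 (csA_5.map decodeW) 370648210496840533485190085958221310832582475557814 = true := by decide +kernel

set_option maxHeartbeats 0 in
theorem incA_6 : incKB gT wa 470231400265621233008154093991852587023854577109308 (csA_6.map decodeW) 427693832253753834655068564430506128834708376941696 = true := by decide +kernel

set_option maxHeartbeats 0 in
theorem incA_7 : incKB gT wa 526247792664647164906418185394206479920329883762684 (csA_7.map decodeW) 470231400265621233008154093991852587023854577109308 = true := by decide +kernel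

set_option maxHeartbeats 0 in
theorem incA_8 : incKB gT wa 615285402332417866974621227297496651906927105998999 (csA_8.map decodeW) 526247792664647164906418185394206479920329883762684 = true := by decide +kernel

set_option maxHeartbeats 0 in
theorem incA_9 : incKB gT wa 717164289151416429888651191671288462405573648287579 (csA_9.map decodeW) 615285402332417866974621227297496651906927105998999 = true := by decide +kernel

set_option maxHeartbeats 0 in
theorem incA_10 : incKB gT wa 833322157678626530988315112367020172794907898318451 (csA_10.map decodeW) 717164289151416429888651191671288462405573648287579 = true := by decide +kernel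

set_option maxHeartbeats 0 in
theorem incA_11 : incKB gT wa 916860006881611224973737900697669972580704092679758 (csA_11.map decodeW) 833322157678626530988315112367020172794907898318451 = true := by decide +kernel

set_option maxHeartbeats 0 in
theorem incA_12 : incKB gT wa 989561985329263397352161170248293595343382069494562 (csA_12.map decodeW) 916860006881611224973737900697669972580704092679758 = true := by decide +kernel

set_option maxHeartbeats 0 in
theorem incA_13 : incKB gT wa 1037924710700337227801849157075052259249628694853247 (csA_13.map decodeW) 989561985329263397352161170248293595343382069494562 = true := by decide +kernel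

set_option maxHeartbeats 0 in
theorem incA_14 : incKB gT wa 1066077646587445270394818094750978864285973272988369 (csA_14.map decodeW) 1037924710700337227801849157075052259249628694853247 = true := by decide +kernel

theorem incA : Inc gT wa csA 0 1066077646587445270394818094750978864285973272988369 :=
  (incKB_spec gT wa _ _ _ incA_0).append ((incKB_spec gT wa _ _ _ incA_1).append ((incKB_spec gT wa _ _ _ incA_2).append ((incKB_spec gT wa _ _ _ incA_3).append ((incKB_spec gT wa _ _ _ incA_4).append ((incKB_spec gT wa _ _ _ incA_5).append ((incKB_spec gT wa _ _ _ incA_6).append ((incKB_spec gT wa _ _ _ incA_7).append ((incKB_spec gT wa _ _ _ incA_8).append ((incKB_spec gT wa _ _ _ incA_9).append ((incKB_spec gT wa _ _ _ incA_10).append ((incKB_spec gT wa _ _ _ incA_11).append ((incKB_spec gT wa _ _ _ incA_12).append ((incKB_spec gT wa _ _ _ incA_13).append ((incKB_spec gT wa _ _ _ incA_14)))))))))))))))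

theorem csA_length : csA.length = 1463 := by decide +kernel

end Cfsg.Agent.Helper17.J1
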