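import Mathlib
import Cfsg.Agent.Helper17.J1.Conc
import Cfsg.Agent.Helper17.J1.Data3

/-!
# Kernel checks: the conjugates of `b` are distinct (helper17; generated)
-/

set_option autoImplicit false

namespace Cfsg.Agent.Helper17.J1

open Cfsg Cfsg.Spor Cfsg.Agent.Helper17

set_option maxHeartbeats 0 in
theorem incB_0 : incKB gT wb 31822626947342057054017122575497000023175983573505 (csB_0.map decodeW) 0 = true := by decide +kernel

set_option maxHeartbeats 0 in
theorem incB_1 : incKB gT wb 62528478928929642559213410992630941425116226346511 (csB_1.map decodeW) 31822626947342057054017122575497000023175983573505 = true := by decide +kernel

set_option maxHeartbeats 0 in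
theorem incB_2 : incKB gT wb 103124405168113777116611211089233871139421904499264 (csB_2.map decodeW) 62528478928929642559213410992630941425116226346511 = true := by decide +kernel

set_option maxHeartbeats 0 in
theorem incB_3 : incKB gT wb 116952623019809147504091278079615438985402440103891 (csB_3.map decodeW) 103124405168113777116611211089233871139421904499264 = true := by decide +kernel

set_option maxHeartbeats 0 in
theorem incB_4 : incKB gT wb 124995172264092428503311934833428833025555987103260 (csB_4.map decodeW) 116952623019809147504091278079615438985402440103891 = true := by decide +kernel

set_option maxHeartbeats 0 in
theorem incB_5 : incKB gT wb 139753942649646681214018144258975095458055691791860 (csB_5.map decodeW) 124995172264092428503311934833428833025555987103260 = true := by decide +kernel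

set_option maxHeartbeats 0 in
theorem incB_6 : incKB gT wb 157720262552154370100832797617431237744284014154261 (csB_6.map decodeW) 139753942649646681214018144258975095458055691791860 = true := by decide +kernel

set_option maxHeartbeats 0 in
theorem incB_7 : incKB gT wb 173545482881270751728483213500554759627184135078791 (csB_7.map decodeW) 157720262552154370100832797617431237744284014154261 = true := by decide +kernel

end Cfsg.Agent.Helper17.J1
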