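import Mathlib
import Cfsg.Agent.Helper17.J1.Conc
import Cfsg.Agent.Helper17.J1.Data3

/-!
# Kernel checks: the conjugates of `b` are distinct (helper17; generated)
-/

set_option autoImplicit false

namespace Cfsg.Agent.Helper17.J1

open Cfsg Cfsg.Spor Cfsg.Agent.Helper17

set_option maxHeartbeats 0 in
theorem incB_8 : incKB gT wb 181663320954429557147698680467781178521229745935941 (csB_8.map decodeW) 173545482881270751728483213500554759627184135078791 = true := by decide +kernel

set_option maxHeartbeats 0 in
theorem incB_9 : incKB gT wb 197075066395840934752073316216793323434148152492098 (csB_9.map decodeW) 181663320954429557147698680467781178521229745935941 = true := by decide +kernel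

set_option maxHeartbeats 0 in
theorem incB_10 : incKB gT wb 228957428568078933206718426203285347159746090093796 (csB_10.map decodeW) 197075066395840934752073316216793323434148152492098 = true := by decide +kernel

set_option maxHeartbeats 0 in
theorem incB_11 : incKB gT wb 251548749116861719507381279906933773834330734794800 (csB_11.map decodeW) 228957428568078933206718426203285347159746090093796 = true := by decide +kernel

set_option maxHeartbeats 0 in
theorem incB_12 : incKB gT wb 275844683901395160175446981133376117757271791815109 (csB_12.map decodeW) 251548749116861719507381279906933773834330734794800 = true := by decide +kernel

set_option maxHeartbeats 0 in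
theorem incB_13 : incKB gT wb 298005796879379165547767500658397381508697446435587 (csB_13.map decodeW) 275844683901395160175446981133376117757271791815109 = true := by decide +kernel

set_option maxHeartbeats 0 in
theorem incB_14 : incKB gT wb 314257449922546000423199105923551274666606515780767 (csB_14.map decodeW) 298005796879379165547767500658397381508697446435587 = true := by decide +kernel

set_option maxHeartbeats 0 in
theorem incB_15 : incKB gT wb 325144255664946804667035955987520016412149159593539 (csB_15.map decodeW) 314257449922546000423199105923551274666606515780767 = true := by decide +kernel

end Cfsg.Agent.Helper17.J1
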