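import Mathlib
import Cfsg.Agent.Helper17.J1.Conc
import Cfsg.Agent.Helper17.J1.Data3

/-!
# Kernel checks: the conjugates of `b` are distinct (helper17; generated)
-/

set_option autoImplicit false

namespace Cfsg.Agent.Helper17.J1

open Cfsg Cfsg.Spor Cfsg.Agent.Helper17

set_option maxHeartbeats 0 in
theorem incB_16 : incKB gT wb 334598064729823983590834717546625218181914013005617 (csB_16.map decodeW) 325144255664946804667035955987520016412149159593539 = true := by decide +kernel

set_option maxHeartbeats 0 in
theorem incB_17 : incKB gT wb 351294445563901561698029384689411370320612142610618 (csB_17.map decodeW) 334598064729823983590834717546625218181914013005617 = true := by decide +kernel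

set_option maxHeartbeats 0 in
theorem incB_18 : incKB gT wb 361075390596957850451278489969044903765797441812519 (csB_18.map decodeW) 351294445563901561698029384689411370320612142610618 = true := by decide +kernel

set_option maxHeartbeats 0 in
theorem incB_19 : incKB gT wb 372482359096228576404455585993618991137647935932589 (csB_19.map decodeW) 361075390596957850451278489969044903765797441812519 = true := by decide +kernel

set_option maxHeartbeats 0 in
theorem incB_20 : incKB gT wb 386670847042558709730211452461791545078966113002458 (csB_20.map decodeW) 372482359096228576404455585993618991137647935932589 = true := by decide +kernel

set_option maxHeartbeats 0 in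
theorem incB_21 : incKB gT wb 399318391430310826720126509270925196430337161499571 (csB_21.map decodeW) 386670847042558709730211452461791545078966113002458 = true := by decide +kernel

set_option maxHeartbeats 0 in
theorem incB_22 : incKB gT wb 418342391403875583995009871102443216022370049587657 (csB_22.map decodeW) 399318391430310826720126509270925196430337161499571 = true := by decide +kernel

set_option maxHeartbeats 0 in
theorem incB_23 : incKB gT wb 439096364275178757449042803944411046228052504164963 (csB_23.map decodeW) 418342391403875583995009871102443216022370049587657 = true := by decide +kernel

end Cfsg.Agent.Helper17.J1
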