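import Mathlib
import Cfsg.Agent.Helper17.J1.Conc
import Cfsg.Agent.Helper17.J1.Data3

/-!
# Kernel checks: the conjugates of `b` are distinct (helper17; generated)
-/

set_option autoImplicit false

namespace Cfsg.Agent.Helper17.J1

open Cfsg Cfsg.Spor Cfsg.Agent.Helper17

set_option maxHeartbeats 0 in
theorem incB_24 : incKB gT wb 458889875251187283225663018479686302591024757379903 (csB_24.map decodeW) 439096364275178757449042803944411046228052504164963 = true := by decide +kernel

set_option maxHeartbeats 0 in
theorem incB_25 : incKB gT wb 478157802114379484266275075824727712922176702091540 (csB_25.map decodeW) 458889875251187283225663018479686302591024757379903 = true := by decide +kernel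

set_option maxHeartbeats 0 in
theorem incB_26 : incKB gT wb 493524748297548630069169894653665263994073447520782 (csB_26.map decodeW) 478157802114379484266275075824727712922176702091540 = true := by decide +kernel

set_option maxHeartbeats 0 in
theorem incB_27 : incKB gT wb 508763297847012751930471919558954429653896427007793 (csB_27.map decodeW) 493524748297548630069169894653665263994073447520782 = true := by decide +kernel

set_option maxHeartbeats 0 in
theorem incB_28 : incKB gT wb 519291798673848139026156746903969247144183526029105 (csB_28.map decodeW) 508763297847012751930471919558954429653896427007793 = true := by decide +kernel

set_option maxHeartbeats 0 in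
theorem incB_29 : incKB gT wb 539201448582835799195349658052671762511140278161751 (csB_29.map decodeW) 519291798673848139026156746903969247144183526029105 = true := by decide +kernel

set_option maxHeartbeats 0 in
theorem incB_30 : incKB gT wb 557778357377812663533787954352342554029879198668168 (csB_30.map decodeW) 539201448582835799195349658052671762511140278161751 = true := by decide +kernel

set_option maxHeartbeats 0 in
theorem incB_31 : incKB gT wb 569731569882445348920832653473319751532488480978099 (csB_31.map decodeW) 557778357377812663533787954352342554029879198668168 = true := by decide +kernel

end Cfsg.Agent.Helper17.J1
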