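import Mathlib
import Cfsg.Agent.Helper17.J1.Conc
import Cfsg.Agent.Helper17.J1.Data3

/-!
# Kernel checks: the conjugates of `b` are distinct (helper17; generated)
-/

set_option autoImplicit false

namespace Cfsg.Agent.Helper17.J1

open Cfsg Cfsg.Spor Cfsg.Agent.Helper17

set_option maxHeartbeats 0 in
theorem incB_32 : incKB gT wb 584719262496121049621751294439488428796306505019067 (csB_32.map decodeW) 569731569882445348920832653473319751532488480978099 = true := by decide +kernel

set_option maxHeartbeats 0 in
theorem incB_33 : incKB gT wb 603360282860168192362324102642019381692107642874369 (csB_33.map decodeW) 584719262496121049621751294439488428796306505019067 = true := by decide +kernel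

set_option maxHeartbeats 0 in
theorem incB_34 : incKB gT wb 615641393027533371473901726020232512505440141619573 (csB_34.map decodeW) 603360282860168192362324102642019381692107642874369 = true := by decide +kernel

set_option maxHeartbeats 0 in
theorem incB_35 : incKB gT wb 630010166344579823942566471530889840894441103097281 (csB_35.map decodeW) 615641393027533371473901726020232512505440141619573 = true := by decide +kernel

set_option maxHeartbeats 0 in
theorem incB_36 : incKB gT wb 649444716960174174140336373388844786631582476391987 (csB_36.map decodeW) 630010166344579823942566471530889840894441103097281 = true := by decide +kernel

set_option maxHeartbeats 0 in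
theorem incB_37 : incKB gT wb 659803581802075776451441849162466346281541747253367 (csB_37.map decodeW) 649444716960174174140336373388844786631582476391987 = true := by decide +kernel

set_option maxHeartbeats 0 in
theorem incB_38 : incKB gT wb 677425982531079883833582778758998334260237776369377 (csB_38.map decodeW) 659803581802075776451441849162466346281541747253367 = true := by decide +kernel

set_option maxHeartbeats 0 in
theorem incB_39 : incKB gT wb 704582154991404399553965491411134430356520453248271 (csB_39.map decodeW) 677425982531079883833582778758998334260237776369377 = true := by decide +kernel

end Cfsg.Agent.Helper17.J1
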