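import Mathlib
import Cfsg.Agent.Helper17.J1.Conc
import Cfsg.Agent.Helper17.J1.Data3

/-!
# Kernel checks: the conjugates of `b` are distinct (helper17; generated)
-/

set_option autoImplicit false

namespace Cfsg.Agent.Helper17.J1

open Cfsg Cfsg.Spor Cfsg.Agent.Helper17

set_option maxHeartbeats 0 in
theorem incB_40 : incKB gT wb 726057836038042718633087782232740828631086968442189 (csB_40.map decodeW) 704582154991404399553965491411134430356520453248271 = true := by decide +kernel

set_option maxHeartbeats 0 in
theorem incB_41 : incKB gT wb 738748860570933955861002246044784133188653034803853 (csB_41.map decodeW) 726057836038042718633087782232740828631086968442189 = true := by decide +kernel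

set_option maxHeartbeats 0 in
theorem incB_42 : incKB gT wb 757466906721555381995039204940411841076430114743854 (csB_42.map decodeW) 738748860570933955861002246044784133188653034803853 = true := by decide +kernel

set_option maxHeartbeats 0 in
theorem incB_43 : incKB gT wb 782966906646944039160764337169146611746224243222885 (csB_43.map decodeW) 757466906721555381995039204940411841076430114743854 = true := by decide +kernel

set_option maxHeartbeats 0 in
theorem incB_44 : incKB gT wb 798530191973307959593350353422797444822389973602951 (csB_44.map decodeW) 782966906646944039160764337169146611746224243222885 = true := by decide +kernel

set_option maxHeartbeats 0 in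
theorem incB_45 : incKB gT wb 810488879262271222146334012268230333882093563573520 (csB_45.map decodeW) 798530191973307959593350353422797444822389973602951 = true := by decide +kernel

set_option maxHeartbeats 0 in
theorem incB_46 : incKB gT wb 824782241311968979818118621808652192280474593604825 (csB_46.map decodeW) 810488879262271222146334012268230333882093563573520 = true := by decide +kernel

set_option maxHeartbeats 0 in
theorem incB_47 : incKB gT wb 839756238904884147327499268033562156475657492049346 (csB_47.map decodeW) 824782241311968979818118621808652192280474593604825 = true := by decide +kernel

end Cfsg.Agent.Helper17.J1
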