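import Mathlib
import Cfsg.Agent.Helper17.J1.Conc
import Cfsg.Agent.Helper17.J1.Data3

/-!
# Kernel checks: the conjugates of `b` are distinct (helper17; generated)
-/

set_option autoImplicit false

namespace Cfsg.Agent.Helper17.J1

open Cfsg Cfsg.Spor Cfsg.Agent.Helper17

set_option maxHeartbeats 0 in
theorem incB_48 : incKB gT wb 852451953311890980580036979897885325278853197851173 (csB_48.map decodeW) 839756238904884147327499268033562156475657492049346 = true := by decide +kernel

set_option maxHeartbeats 0 in
theorem incB_49 : incKB gT wb 865203421642187160667733129605874733066754824614328 (csB_49.map decodeW) 852451953311890980580036979897885325278853197851173 = true := by decide +kernel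

set_option maxHeartbeats 0 in
theorem incB_50 : incKB gT wb 879476072861223732132683124740273084677132518340251 (csB_50.map decodeW) 865203421642187160667733129605874733066754824614328 = true := by decide +kernel

set_option maxHeartbeats 0 in
theorem incB_51 : incKB gT wb 896924154931900329176528870292684810567806216873417 (csB_51.map decodeW) 879476072861223732132683124740273084677132518340251 = true := by decide +kernel

set_option maxHeartbeats 0 in
theorem incB_52 : incKB gT wb 915477652503119645486752051493117825324555049678304 (csB_52.map decodeW) 896924154931900329176528870292684810567806216873417 = true := by decide +kernel

set_option maxHeartbeats 0 in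
theorem incB_53 : incKB gT wb 931201206490157805034875819416984979491078990533441 (csB_53.map decodeW) 915477652503119645486752051493117825324555049678304 = true := by decide +kernel

set_option maxHeartbeats 0 in
theorem incB_54 : incKB gT wb 948920202440228517221191712346992374481031975555871 (csB_54.map decodeW) 931201206490157805034875819416984979491078990533441 = true := by decide +kernel

set_option maxHeartbeats 0 in
theorem incB_55 : incKB gT wb 966844866431844028436247852633089046024547212258095 (csB_55.map decodeW) 948920202440228517221191712346992374481031975555871 = true := by decide +kernel

end Cfsg.Agent.Helper17.J1
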