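import Mathlib
import Cfsg.Agent.Helper17.J1.Conc
import Cfsg.Agent.Helper17.J1.Data3

/-!
# Kernel checks: the conjugates of `b` are distinct (helper17; generated)
-/

set_option autoImplicit false

namespace Cfsg.Agent.Helper17.J1

open Cfsg Cfsg.Spor Cfsg.Agent.Helper17

set_option maxHeartbeats 0 in
theorem incB_56 : incKB gT wb 1009928065451503548637196849856692033087701065312807 (csB_56.map decodeW) 966844866431844028436247852633089046024547212258095 = true := by decide +kernel

set_option maxHeartbeats 0 in
theorem incB_57 : incKB gT wb 1047945736706191109468335634221283768456567444371985 (csB_57.map decodeW) 1009928065451503548637196849856692033087701065312807 = true := by decide +kernel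

set_option maxHeartbeats 0 in
theorem incB_58 : incKB gT wb 1067005394443013845768019084620338411147730427700626 (csB_58.map decodeW) 1047945736706191109468335634221283768456567444371985 = true := by decide +kernel

end Cfsg.Agent.Helper17.J1
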