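import Mathlib
import Cfsg.Agent.Helper17.J1.Conc
import Cfsg.Agent.Helper17.J1.Data3

/-!
# Kernel checks: the candidate images of `b` (helper17; generated)
-/

set_option autoImplicit false

namespace Cfsg.Agent.Helper17.J1

open Cfsg Cfsg.Spor Cfsg.Agent.Helper17

set_option maxHeartbeats 0 in
theorem candB_0 : ((csB_0.map decodeW).all fun c => chkCand gT Am wa wb c) = true := by decide +kernel

set_option maxHeartbeats 0 in
theorem candB_1 : ((csB_1.map decodeW).all fun c => chkCand gT Am wa wb c) = true := by decide +kernel

set_option maxHeartbeats 0 in
theorem candB_2 : ((csB_2.map decodeW).all fun c => chkCand gT Am wa wb c) = true := by decide +kernel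

set_option maxHeartbeats 0 in
theorem candB_3 : ((csB_3.map decodeW).all fun c => chkCand gT Am wa wb c) = true := by decide +kernel

set_option maxHeartbeats 0 in
theorem candB_4 : ((csB_4.map decodeW).all fun c => chkCand gT Am wa wb c) = true := by decide +kernel

set_option maxHeartbeats 0 in
theorem candB_5 : ((csB_5.map decodeW).all fun c => chkCand gT Am wa wb c) = true := by decide +kernel

set_option maxHeartbeats 0 in
theorem candB_6 : ((csB_6.map decodeW).all fun c => chkCand gT Am wa wb c) = true := by decide +kernel

set_option maxHeartbeats 0 in
theorem candB_7 : ((csB_7.map decodeW).all fun c => chkCand gT Am wa wb c) = true := by decide +kernel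

end Cfsg.Agent.Helper17.J1
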