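import Mathlib
import Cfsg.Agent.Helper17.J1.Conc
import Cfsg.Agent.Helper17.J1.Data3

/-!
# Kernel checks: the candidate images of `b` (helper17; generated)
-/

set_option autoImplicit false

namespace Cfsg.Agent.Helper17.J1

open Cfsg Cfsg.Spor Cfsg.Agent.Helper17

set_option maxHeartbeats 0 in
theorem candB_16 : ((csB_16.map decodeW).all fun c => chkCand gT Am wa wb c) = true := by decide +kernel

set_option maxHeartbeats 0 in
theorem candB_17 : ((csB_17.map decodeW).all fun c => chkCand gT Am wa wb c) = true := by decide +kernel

set_option maxHeartbeats 0 in
theorem candB_18 : ((csB_18.map decodeW).all fun c => chkCand gT Am wa wb c) = true := by decide +kernel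

set_option maxHeartbeats 0 in
theorem candB_19 : ((csB_19.map decodeW).all fun c => chkCand gT Am wa wb c) = true := by decide +kernel

set_option maxHeartbeats 0 in
theorem candB_20 : ((csB_20.map decodeW).all fun c => chkCand gT Am wa wb c) = true := by decide +kernel

set_option maxHeartbeats 0 in
theorem candB_21 : ((csB_21.map decodeW).all fun c => chkCand gT Am wa wb c) = true := by decide +kernel

set_option maxHeartbeats 0 in
theorem candB_22 : ((csB_22.map decodeW).all fun c => chkCand gT Am wa wb c) = true := by decide +kernel

set_option maxHeartbeats 0 in
theorem candB_23 : ((csB_23.map decodeW).all fun c => chkCand gT Am wa wb c) = true := by decide +kernel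

end Cfsg.Agent.Helper17.J1
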