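import Mathlib
import Cfsg.Agent.Helper17.J1.ChkB0
import Cfsg.Agent.Helper17.J1.ChkC0
import Cfsg.Agent.Helper17.J1.ChkB1
import Cfsg.Agent.Helper17.J1.ChkC1
import Cfsg.Agent.Helper17.J1.ChkB2
import Cfsg.Agent.Helper17.J1.ChkC2
import Cfsg.Agent.Helper17.J1.ChkB3
import Cfsg.Agent.Helper17.J1.ChkC3
import Cfsg.Agent.Helper17.J1.ChkB4
import Cfsg.Agent.Helper17.J1.ChkC4
import Cfsg.Agent.Helper17.J1.ChkB5
import Cfsg.Agent.Helper17.J1.ChkC5
import Cfsg.Agent.Helper17.J1.ChkB6
import Cfsg.Agent.Helper17.J1.ChkC6
import Cfsg.Agent.Helper17.J1.ChkB7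
import Cfsg.Agent.Helper17.J1.ChkC7

/-!
# The conjugates of `b` in `J₁`: combined kernel checks (helper17; generated)
-/

set_option autoImplicit false

namespace Cfsg.Agent.Helper17.J1

open Cfsg Cfsg.Spor Cfsg.Agent.Helper17

theorem incB : Inc gT wb csB 0 1067005394443013845768019084620338411147730427700626 :=
  (incKB_spec gT wb _ _ _ incB_0).append ((incKB_spec gT wb _ _ _ incB_1).append ((incKB_spec gT wb _ _ _ incB_2).append ((incKB_spec gT wb _ _ _ incB_3).append ((incKB_spec gT wb _ _ _ incB_4).append ((incKB_spec gT wb _ _ _ incB_5).append ((incKB_spec gT wb _ _ _ incB_6).append ((incKB_spec gT wb _ _ _ incB_7).append ((incKB_spec gT wb _ _ _ incB_8).append ((incKB_spec gT wb _ _ _ incB_9).append ((incKB_spec gT wb _ _ _ incB_10).append ((incKB_spec gT wb _ _ _ incB_11).append ((incKB_spec gT wb _ _ _ incB_12).append ((incKB_spec gT wb _ _ _ incB_13).append ((incKB_spec gT wb _ _ _ incB_14).append ((incKB_spec gT wb _ _ _ incB_15).append ((incKB_spec gT wb _ _ _ incB_16).append ((incKB_spec gT wb _ _ _ incB_17).append ((incKB_spec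 gT wb _ _ _ incB_18).append ((incKB_spec gT wb _ _ _ incB_19).append ((incKB_spec gT wb _ _ _ incB_20).append ((incKB_spec gT wb _ _ _ incB_21).append ((incKB_spec gT wb _ _ _ incB_22).append ((incKB_spec gT wb _ _ _ incB_23).append ((incKB_spec gT wb _ _ _ incB_24).append ((incKB_spec gT wb _ _ _ incB_25).append ((incKB_spec gT wb _ _ _ incB_26).append ((incKB_spec gT wb _ _ _ incB_27).append ((incKB_spec gT wb _ _ _ incB_28).append ((incKB_spec gT wb _ _ _ incB_29).append ((incKB_spec gT wb _ _ _ incB_30).append ((incKB_spec gT wb _ _ _ incB_31).append ((incKB_spec gT wb _ _ _ incB_32).append ((incKB_spec gT wb _ _ _ incB_33).append ((incKB_spec gT wb _ _ _ incB_34).append ((incKB_spec gT wb _ _ _ incB_35).append ((incKB_spec gT wb _ _ _ incB_36).append ((incKB_spec gT wb _ _ _ incB_37).append ((incKB_spec gT wb _ _ _ incB_38).append ((incKB_spec gT wb _ _ _ incB_39).append ((incKB_spec gT wb _ _ _ incB_40).append ((incKB_spec gT wb _ _ _ incB_41).append ((incKB_spec gT wb _ _ _ incB_42).append ((incKB_spec gT wb _ _ _ incB_43).append ((incKB_spec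 gT wb _ _ _ incB_44).append ((incKB_spec gT wb _ _ _ incB_45).append ((incKB_spec gT wb _ _ _ incB_46).append ((incKB_spec gT wb _ _ _ incB_47).append ((incKB_spec gT wb _ _ _ incB_48).append ((incKB_spec gT wb _ _ _ incB_49).append ((incKB_spec gT wb _ _ _ incB_50).append ((incKB_spec gT wb _ _ _ incB_51).append ((incKB_spec gT wb _ _ _ incB_52).append ((incKB_spec gT wb _ _ _ incB_53).append ((incKB_spec gT wb _ _ _ incB_54).append ((incKB_spec gT wb _ _ _ incB_55).append ((incKB_spec gT wb _ _ _ incB_56).append ((incKB_spec gT wb _ _ _ incB_57).append ((incKB_spec gT wb _ _ _ incB_58)))))))))))))))))))))))))))))))))))))))))))))))))))))))))))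

theorem csB_length : csB.length = 5852 := by decide +kernel

theorem forall_mem_append' {α : Type} {P : α → Prop} {l1 l2 : List α} (h1 : ∀ c ∈ l1, P c)
    (h2 : ∀ c ∈ l2, P c) : ∀ c ∈ l1 ++ l2, P c :=
  fun c hc => (List.mem_append.1 hc).elim (h1 c) (h2 c)

theorem candB : ∀ c ∈ csB, chkCand gT Am wa wb c = true :=
  forall_mem_append' (fun c hc => List.all_eq_true.1 candB_0 c hc) (forall_mem_append' (fun c hc => List.all_eq_true.1 candB_1 c hc) (forall_mem_append' (fun c hc => List.all_eq_true.1 candB_2 c hc) (forall_mem_append' (fun c hc => List.all_eq_true.1 candB_3 c hc) (forall_mem_append' (fun c hc => List.all_eq_true.1 candB_4 c hc) (forall_mem_append' (fun c hc => List.all_eq_true.1 candB_5 c hc) (forall_mem_append' (fun c hc => List.all_eq_true.1 candB_6 c hc) (forall_mem_append' (fun c hc => List.all_eq_true.1 candB_7 c hc) (forall_mem_append' (fun c hc => List.all_eq_true.1 candB_8 c hc) (forall_mem_append' (fun c hc => List.all_eq_true.1 candB_9 c hc) (forall_mem_append' (fun c hc => List.all_eq_true.1 candB_10 c hc) (forall_mem_append'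 (fun c hc => List.all_eq_true.1 candB_11 c hc) (forall_mem_append' (fun c hc => List.all_eq_true.1 candB_12 c hc) (forall_mem_append' (fun c hc => List.all_eq_true.1 candB_13 c hc) (forall_mem_append' (fun c hc => List.all_eq_true.1 candB_14 c hc) (forall_mem_append' (fun c hc => List.all_eq_true.1 candB_15 c hc) (forall_mem_append' (fun c hc => List.all_eq_true.1 candB_16 c hc) (forall_mem_append' (fun c hc => List.all_eq_true.1 candB_17 c hc) (forall_mem_append' (fun c hc => List.all_eq_true.1 candB_18 c hc) (forall_mem_append' (fun c hc => List.all_eq_true.1 candB_19 c hc) (forall_mem_append' (fun c hc => List.all_eq_true.1 candB_20 c hc) (forall_mem_append' (fun c hc => List.all_eq_true.1 candB_21 c hc) (forall_mem_append' (fun c hc => List.all_eq_true.1 candB_22 c hc) (forall_mem_append' (fun c hc => List.all_eq_true.1 candB_23 c hc) (forall_mem_append' (fun c hc => List.all_eq_true.1 candB_24 c hc) (forall_mem_append' (fun c hc => List.all_eq_true.1 candB_25 c hc) (forall_mem_append' (fun c hc => List.all_eq_true.1 candB_26 c hc) (forall_mem_append'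 (fun c hc => List.all_eq_true.1 candB_27 c hc) (forall_mem_append' (fun c hc => List.all_eq_true.1 candB_28 c hc) (forall_mem_append' (fun c hc => List.all_eq_true.1 candB_29 c hc) (forall_mem_append' (fun c hc => List.all_eq_true.1 candB_30 c hc) (forall_mem_append' (fun c hc => List.all_eq_true.1 candB_31 c hc) (forall_mem_append' (fun c hc => List.all_eq_true.1 candB_32 c hc) (forall_mem_append' (fun c hc => List.all_eq_true.1 candB_33 c hc) (forall_mem_append' (fun c hc => List.all_eq_true.1 candB_34 c hc) (forall_mem_append' (fun c hc => List.all_eq_true.1 candB_35 c hc) (forall_mem_append' (fun c hc => List.all_eq_true.1 candB_36 c hc) (forall_mem_append' (fun c hc => List.all_eq_true.1 candB_37 c hc) (forall_mem_append' (fun c hc => List.all_eq_true.1 candB_38 c hc) (forall_mem_append' (fun c hc => List.all_eq_true.1 candB_39 c hc) (forall_mem_append' (fun c hc => List.all_eq_true.1 candB_40 c hc) (forall_mem_append' (fun c hc => List.all_eq_true.1 candB_41 c hc) (forall_mem_append' (fun c hc => List.all_eq_true.1 candB_42 c hc) (forall_mem_append'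 (fun c hc => List.all_eq_true.1 candB_43 c hc) (forall_mem_append' (fun c hc => List.all_eq_true.1 candB_44 c hc) (forall_mem_append' (fun c hc => List.all_eq_true.1 candB_45 c hc) (forall_mem_append' (fun c hc => List.all_eq_true.1 candB_46 c hc) (forall_mem_append' (fun c hc => List.all_eq_true.1 candB_47 c hc) (forall_mem_append' (fun c hc => List.all_eq_true.1 candB_48 c hc) (forall_mem_append' (fun c hc => List.all_eq_true.1 candB_49 c hc) (forall_mem_append' (fun c hc => List.all_eq_true.1 candB_50 c hc) (forall_mem_append' (fun c hc => List.all_eq_true.1 candB_51 c hc) (forall_mem_append' (fun c hc => List.all_eq_true.1 candB_52 c hc) (forall_mem_append' (fun c hc => List.all_eq_true.1 candB_53 c hc) (forall_mem_append' (fun c hc => List.all_eq_true.1 candB_54 c hc) (forall_mem_append' (fun c hc => List.all_eq_true.1 candB_55 c hc) (forall_mem_append' (fun c hc => List.all_eq_true.1 candB_56 c hc) (forall_mem_append' (fun c hc => List.all_eq_true.1 candB_57 c hc) ((fun c hc => List.all_eq_true.1 candB_58 c hc)))))))))))))))))))))))))))))))))))))))))))))))))))))))))))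

end Cfsg.Agent.Helper17.J1
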