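import Mathlib
import Cfsg.Agent.Helper17.J1.Grp

/-!
# More abstract lemmas: centralizers, conjugacy into Sylow subgroups, homomorphisms from tables,
inner automorphisms (helper17)
-/

set_option autoImplicit false

namespace Cfsg.Agent.Helper17.J1

section Cent

variable {K : Type*} [Group K]

theorem conj_eq_of_coset_eq (t : K) {u v : K}
    (h : (u : K ⧸ Subgroup.centralizer ({t} : Set K)) = v) : u * t * u⁻¹ = v * t * v⁻¹ := by
  rw [QuotientGroup.eq, Subgroup.mem_centralizer_iff] at h
  have h1 := h t (Set.mem_singleton t)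
  -- h1 : t * (u⁻¹ * v) = u⁻¹ * v * t
  have : v * t * v⁻¹ = u * (u⁻¹ * v * t) * v⁻¹ := by group
  rw [this, ← h1]
  group

theorem coset_eq_of_conj_eq (t : K) {u v : K} (h : u * t * u⁻¹ = v * t * v⁻¹) :
    (u : K ⧸ Subgroup.centralizer ({t} : Set K)) = v := by
  rw [QuotientGroup.eq, Subgroup.mem_centralizer_iff]
  intro z hz
  rw [Set.mem_singleton_iff] at hz
  subst hz
  have : z * (u⁻¹ * v) = u⁻¹ * (u * z * u⁻¹) * v := by group
  rw [this, h]
  group

/-- `n` distinct conjugates bound the order of the centralizer -/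
theorem card_centralizer_mul_le [Finite K] (t : K) (n : ℕ) (u : Fin n → K)
    (hinj : Function.Injective fun i => u i * t * (u i)⁻¹) :
    Nat.card (Subgroup.centralizer ({t} : Set K)) * n ≤ Nat.card K := by
  have hinj' : Function.Injective fun i => (u i : K ⧸ Subgroup.centralizer ({t} : Set K)) := by
    intro i j e
    exact hinj (conj_eq_of_coset_eq t e)
  have h1 : n ≤ (Subgroup.centralizer ({t} : Set K)).index := by
    have := Nat.card_le_card_of_injective _ hinj'
    rwa [Nat.card_fin] at this
  rw [← Subgroup.card_mul_index (Subgroup.centralizer ({t} : Set K))]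
  exact Nat.mul_le_mul_left _ h1

/-- if the number of listed distinct conjugates is the index of the centralizer, every conjugate
is listed -/
theorem conj_covered [Finite K] (t : K) (n : ℕ) (u : Fin n → K)
    (hinj : Function.Injective fun i => u i * t * (u i)⁻¹)
    (hcard : Nat.card K ≤ Nat.card (Subgroup.centralizer ({t} : Set K)) * n) :
    ∀ g : K, ∃ i, g * t * g⁻¹ = u i * t * (u i)⁻¹ := by
  have hinj' : Function.Injective fun i => (u i : K ⧸ Subgroup.centralizer ({t} : Set K)) := by
    intro i j e
    exact hinj (conj_eq_of_coset_eq t e)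
  have hle : Nat.card (K ⧸ Subgroup.centralizer ({t} : Set K)) ≤ Nat.card (Fin n) := by
    rw [Nat.card_fin]
    have h1 := Subgroup.card_mul_index (Subgroup.centralizer ({t} : Set K))
    have hpos : 0 < Nat.card (Subgroup.centralizer ({t} : Set K)) := Nat.card_pos
    have h2 : Nat.card (Subgroup.centralizer ({t} : Set K)) *
        (Subgroup.centralizer ({t} : Set K)).index ≤
        Nat.card (Subgroup.centralizer ({t} : Set K)) * n := by rw [h1]; exact hcard
    exact Nat.le_of_mul_le_mul_left h2 hpos
  have hbij := Function.Injective.bijective_of_nat_card_le hinj' hle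
  intro g
  obtain ⟨i, hi⟩ := hbij.2 (g : K ⧸ Subgroup.centralizer ({t} : Set K))
  exact ⟨i, (conj_eq_of_coset_eq t hi).symm⟩

/-- an element of prime order is conjugate into a given Sylow subgroup -/
theorem conj_into_sylow [Finite K] (P : Subgroup K) {p k : ℕ} (hp : p.Prime)
    (hPc : Nat.card P = p ^ k) (hPk : ¬ p ^ (k + 1) ∣ Nat.card K) (z : K) (hz : orderOf z = p) :
    ∃ g : K, g * z * g⁻¹ ∈ P := by
  have : Fact p.Prime := ⟨hp⟩
  have hfac : (Nat.card K).factorization p = k := by
    have hK0 : Nat.card K ≠ 0 := Nat.card_pos.ne'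
    have h1 : p ^ k ∣ Nat.card K := hPc ▸ Subgroup.card_subgroup_dvd_card P
    have h2 := (hp.pow_dvd_iff_le_factorization hK0).1 h1
    have h3 : ¬ (k + 1 ≤ (Nat.card K).factorization p) :=
      fun hle => hPk ((hp.pow_dvd_iff_le_factorization hK0).2 hle)
    omega
  let S : Sylow p K := Sylow.ofCard P (by rw [hPc, hfac])
  have hSP : (S : Subgroup K) = P := rfl
  have hpg : IsPGroup p (Subgroup.zpowers z) := by
    apply IsPGroup.of_card (n := 1)
    rw [Nat.card_zpowers, hz, pow_one]
  obtain ⟨Q, hQ⟩ := hpg.exists_le_sylow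
  obtain ⟨g, hg⟩ := MulAction.exists_smul_eq K Q S
  have hzQ : z ∈ (Q : Subgroup K) := hQ (Subgroup.mem_zpowers _)
  refine ⟨g, ?_⟩
  rw [← hSP, ← hg, Sylow.coe_subgroup_smul]
  exact ⟨z, hzQ, rfl⟩

end Cent

section Table

variable {A K : Type*} [Group A] [Group K]

/-- a homomorphism defined by a table of words: the words `W i` enumerate `A` through the
generators `σ`, `τ`, the tables `nx`, `ny` describe right multiplication by the generators in
`A`, and the same identities hold for `p`, `q` in `K` -/
theorem hom_of_table (σ τ : A) (p q : K) {n : ℕ} (W : Fin n → List ℕ) (nx ny : Fin n → Fin n)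
    (e : Fin n ≃ A) (he : ∀ i, e i = ev σ τ (W i)) (i0 : Fin n) (h0 : W i0 = [])
    (hAx : ∀ i, ev σ τ (W i ++ [0]) = ev σ τ (W (nx i)))
    (hAy : ∀ i, ev σ τ (W i ++ [2]) = ev σ τ (W (ny i)))
    (hKx : ∀ i, ev p q (W i ++ [0]) = ev p q (W (nx i)))
    (hKy : ∀ i, ev p q (W i ++ [2]) = ev p q (W (ny i)))
    (hpos : ∀ i, ∀ l ∈ W i, l = 0 ∨ l = 2) :
    ∃ F : A →* K, ∀ w : List ℕ, (∀ l ∈ w, l = 0 ∨ l = 2) → F (ev σ τ w) = ev p q w := by
  have hi0 : e i0 = 1 := by rw [he, h0]; rfl
  have key : ∀ w : List ℕ, (∀ l ∈ w, l = 0 ∨ l = 2) → ev p q w = ev p q (W (e.symm (ev σ τ w))) := by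
    intro w
    induction w using List.reverseRecOn with
    | nil =>
      intro _
      have : e.symm (ev σ τ []) = i0 := by
        rw [Equiv.symm_apply_eq, hi0]; rfl
      rw [this, h0]
    | append_singleton w l ih =>
      intro hw
      have hw' : ∀ l ∈ w, l = 0 ∨ l = 2 := fun l hl => hw l (by simp [hl])
      have ih' := ih hw'
      set i := e.symm (ev σ τ w) with hi
      have hei : e i = ev σ τ w := by rw [hi, Equiv.apply_symm_apply]
      rcases hw l (by simp) with rfl | rfl
      · have h1 : ev σ τ (w ++ [0]) = e (nx i) := by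
          rw [he, ← hAx, ev_append, ev_append, ← he, hei]
        have h2 : e.symm (ev σ τ (w ++ [0])) = nx i := by rw [h1, Equiv.symm_apply_apply]
        rw [h2, ← hKx, ev_append, ev_append, ih']
      · have h1 : ev σ τ (w ++ [2]) = e (ny i) := by
          rw [he, ← hAy, ev_append, ev_append, ← he, hei]
        have h2 : e.symm (ev σ τ (w ++ [2])) = ny i := by rw [h1, Equiv.symm_apply_apply]
        rw [h2, ← hKy, ev_append, ev_append, ih']
  let F : A → K := fun g => ev p q (W (e.symm g))
  have hmul : ∀ g h : A, F (g * h) = F g * F h := by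
    intro g h
    obtain ⟨i, rfl⟩ := e.surjective g
    obtain ⟨j, rfl⟩ := e.surjective h
    show ev p q (W (e.symm (e i * e j))) = ev p q (W (e.symm (e i))) * ev p q (W (e.symm (e j)))
    rw [Equiv.symm_apply_apply, Equiv.symm_apply_apply, ← ev_append,
      key (W i ++ W j) (by
        intro l hl
        rcases List.mem_append.1 hl with hl | hl
        · exact hpos i l hl
        · exact hpos j l hl),
      ev_append, ← he, ← he]
  refine ⟨MonoidHom.mk' F hmul, ?_⟩
  intro w hw
  show ev p q (W (e.symm (ev σ τ w))) = ev p q w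
  exact (key w hw).symm

end Table

end Cfsg.Agent.Helper17.J1
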