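import Mathlib
import Cfsg.Agent.Helper17.J1.Grp2

/-!
# A centralizer of the form `2 × A₅`, and inner automorphisms (helper17)
-/

set_option autoImplicit false

namespace Cfsg.Agent.Helper17.J1

variable {K : Type*} [Group K]

/-- an involution whose centralizer has order at most 120 and contains an image of `A₅` -/
theorem centralizer_iso [Finite K] (a : K) (ha2 : a ^ 2 = 1) (ha1 : a ≠ 1)
    (hC : Nat.card (Subgroup.centralizer ({a} : Set K)) ≤ 120)
    (F : alternatingGroup (Fin 5) →* K) (hFa : ∀ g, F g * a = a * F g) (hF1 : ∃ g, F g ≠ 1) :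
    Nonempty (Subgroup.centralizer ({a} : Set K) ≃*
      Multiplicative (ZMod 2) × alternatingGroup (Fin 5)) := by
  -- `F` is injective
  have hFinj : Function.Injective F := by
    rw [← MonoidHom.ker_eq_bot_iff]
    rcases (alternatingGroup.isSimpleGroup_five).eq_bot_or_eq_top_of_normal F.ker inferInstance
      with h | h
    · exact h
    · exfalso
      obtain ⟨g, hg⟩ := hF1
      apply hg
      have : g ∈ F.ker := by rw [h]; trivial
      exact this
  let C := Subgroup.centralizer ({a} : Set K)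
  have haC : a ∈ C := by
    rw [Subgroup.mem_centralizer_iff]
    intro h hh
    rw [Set.mem_singleton_iff] at hh
    rw [hh]
  let aC : C := ⟨a, haC⟩
  have haC2 : aC ^ 2 = 1 := Subtype.ext (by simpa using ha2)
  let FC : alternatingGroup (Fin 5) →* C := F.codRestrict C (by
    intro g
    rw [Subgroup.mem_centralizer_iff]
    intro h hh
    rw [Set.mem_singleton_iff] at hh
    rw [hh]
    exact (hFa g).symm)
  have hFCa : ∀ g, Commute (FC g) aC := by
    intro g
    apply Subtype.ext
    exact hFa g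
  have hpow : ∀ n : ℕ, aC ^ (n % 2) = aC ^ n := fun n => (pow_eq_pow_mod n haC2).symm
  let Θ : Multiplicative (ZMod 2) × alternatingGroup (Fin 5) → C :=
    fun z => aC ^ (Multiplicative.toAdd z.1).val * FC z.2
  have hΘmul : ∀ z w, Θ (z * w) = Θ z * Θ w := by
    intro z w
    show aC ^ (Multiplicative.toAdd (z.1 * w.1)).val * FC (z.2 * w.2) =
      aC ^ (Multiplicative.toAdd z.1).val * FC z.2 * (aC ^ (Multiplicative.toAdd w.1).val * FC w.2)
    rw [toAdd_mul, ZMod.val_add, hpow, pow_add, map_mul]
    have hc : Commute (FC z.2) (aC ^ (Multiplicative.toAdd w.1).val) := (hFCa z.2).pow_right _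
    calc aC ^ (Multiplicative.toAdd z.1).val * aC ^ (Multiplicative.toAdd w.1).val * (FC z.2 * FC w.2)
        = aC ^ (Multiplicative.toAdd z.1).val * (aC ^ (Multiplicative.toAdd w.1).val * FC z.2) * FC w.2 := by
          simp only [mul_assoc]
      _ = aC ^ (Multiplicative.toAdd z.1).val * (FC z.2 * aC ^ (Multiplicative.toAdd w.1).val) * FC w.2 := by
          rw [hc.eq]
      _ = _ := by simp only [mul_assoc]
  let Θh : Multiplicative (ZMod 2) × alternatingGroup (Fin 5) →* C := MonoidHom.mk' Θ hΘmul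
  have hΘinj : Function.Injective Θh := by
    rw [injective_iff_map_eq_one]
    rintro ⟨i, g⟩ hz
    have hz' : aC ^ (Multiplicative.toAdd i).val * FC g = 1 := hz
    have hlt : (Multiplicative.toAdd i).val < 2 := ZMod.val_lt _
    have hcases : (Multiplicative.toAdd i).val = 0 ∨ (Multiplicative.toAdd i).val = 1 := by omega
    rcases hcases with h0 | h1
    · rw [h0, pow_zero, one_mul] at hz'
      have hg : g = 1 := by
        apply hFinj
        rw [map_one]
        have := congrArg (Subtype.val) hz'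
        exact this
      have hi : Multiplicative.toAdd i = 0 := (ZMod.val_eq_zero _).1 h0
      have hi' : i = 1 := hi
      rw [hg, hi']
      rfl
    · exfalso
      rw [h1, pow_one] at hz'
      have hFg : F g = a := by
        have h2 : FC g = aC⁻¹ := eq_inv_of_mul_eq_one_right hz'
        have h3 : aC⁻¹ = aC := by
          rw [inv_eq_iff_eq_inv, eq_inv_iff_mul_eq_one, ← pow_two, haC2]
        rw [h3] at h2
        exact congrArg Subtype.val h2
      have hcen : g ∈ Subgroup.center (alternatingGroup (Fin 5)) := by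
        rw [Subgroup.mem_center_iff]
        intro h
        apply hFinj
        rw [map_mul, map_mul, hFg]
        exact hFa h
      rw [alternatingGroup.center_eq_bot (by simp), Subgroup.mem_bot] at hcen
      rw [hcen, map_one] at hFg
      exact ha1 hFg.symm
  have hcard : Nat.card C ≤ Nat.card (Multiplicative (ZMod 2) × alternatingGroup (Fin 5)) := by
    have e1 : Nat.card (Multiplicative (ZMod 2) × alternatingGroup (Fin 5)) = 120 := by
      rw [Nat.card_prod, nat_card_alternatingGroup]
      simp [Nat.factorial]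
    rw [e1]
    exact hC
  have hbij : Function.Bijective Θh := hΘinj.bijective_of_nat_card_le hcard
  exact ⟨(MulEquiv.ofBijective Θh hbij).symm⟩

/-- every automorphism is inner, from conjugacy of involutions and elements of order 3 and a
finite check on the conjugates of `b` -/
theorem aut_inner (a b : K) (hgen : Subgroup.closure ({a, b} : Set K) = ⊤)
    (ha2 : a ^ 2 = 1) (ha1 : a ≠ 1) (hb3 : b ^ 3 = 1) (hb1 : b ≠ 1)
    (hab7 : (a * b) ^ 7 = 1) (h19 : (a * b * (a * b) * b) ^ 19 = 1)
    (hinv : ∀ t : K, orderOf t = 2 → ∃ g, t = g * a * g⁻¹)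
    (hthree : ∀ s : K, orderOf s = 3 → ∃ g, s = g * b * g⁻¹)
    (hQ : ∀ g : K, (a * (g * b * g⁻¹)) ^ 7 = 1 →
      (a * (g * b * g⁻¹) * (a * (g * b * g⁻¹)) * (g * b * g⁻¹)) ^ 19 = 1 →
      ∃ d, d * a = a * d ∧ g * b * g⁻¹ = d * b * d⁻¹)
    (φ : MulAut K) : ∃ g, φ = MulAut.conj g := by
  have hoa : orderOf a = 2 := orderOf_eq_prime ha2 ha1
  have hob : orderOf b = 3 := orderOf_eq_prime hb3 hb1
  have hoa' : orderOf (φ a) = 2 := by rw [MulEquiv.orderOf_eq, hoa]
  obtain ⟨g, hg⟩ := hinv _ hoa'
  -- `ψ = conj g⁻¹ ∘ φ` fixes `a`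
  let ψ : MulAut K := MulAut.conj g⁻¹ * φ
  have hψ : ∀ z, ψ z = g⁻¹ * φ z * g := by
    intro z
    show MulAut.conj g⁻¹ (φ z) = _
    rw [MulAut.conj_apply, inv_inv]
  have hψa : ψ a = a := by rw [hψ, hg]; group
  have hob' : orderOf (ψ b) = 3 := by rw [MulEquiv.orderOf_eq, hob]
  obtain ⟨h, hh⟩ := hthree _ hob'
  have e7 : (a * (h * b * h⁻¹)) ^ 7 = 1 := by
    have : a * (h * b * h⁻¹) = ψ (a * b) := by rw [map_mul, hψa, hh]
    rw [this, ← map_pow, hab7, map_one]
  have e19 : (a * (h * b * h⁻¹) * (a * (h * b * h⁻¹)) * (h * b * h⁻¹)) ^ 19 = 1 := by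
    have : a * (h * b * h⁻¹) * (a * (h * b * h⁻¹)) * (h * b * h⁻¹) = ψ (a * b * (a * b) * b) := by
      rw [map_mul, map_mul, map_mul, hψa, hh]
    rw [this, ← map_pow, h19, map_one]
  obtain ⟨d, hda, hdb⟩ := hQ h e7 e19
  -- `ψ` agrees with conjugation by `d` on the generators
  have hψd : ψ = MulAut.conj d := by
    have h1 : (ψ : K →* K) = (MulAut.conj d : K →* K) := by
      apply MonoidHom.eq_of_eqOn_dense hgen
      rintro z (rfl | rfl)
      · show ψ z = MulAut.conj d z
        rw [hψa, MulAut.conj_apply, hda]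
        group
      · show ψ z = MulAut.conj d z
        rw [hh, hdb, MulAut.conj_apply]
    ext z
    exact congrFun (congrArg DFunLike.coe h1) z
  refine ⟨g * d, ?_⟩
  have : φ = MulAut.conj g * ψ := by
    show φ = MulAut.conj g * (MulAut.conj g⁻¹ * φ)
    rw [← mul_assoc, ← map_mul, mul_inv_cancel, map_one, one_mul]
  rw [this, hψd, map_mul]

end Cfsg.Agent.Helper17.J1
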