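import Mathlib
import Cfsg.Agent.Helper17.J1.Mat

/-!
# More kernel matrix arithmetic: transposes, products, powers, keys (helper17)
-/

set_option autoImplicit false

namespace Cfsg.Agent.Helper17.J1

open Cfsg.Agent.Helper17.TC (force force_eq)

/-- transpose -/
def tr (m : M7) : M7 :=
  ⟨⟨m.r0.x0, m.r1.x0, m.r2.x0, m.r3.x0, m.r4.x0, m.r5.x0, m.r6.x0⟩, ⟨m.r0.x1, m.r1.x1, m.r2.x1, m.r3.x1, m.r4.x1, m.r5.x1, m.r6.x1⟩, ⟨m.r0.x2, m.r1.x2, m.r2.x2, m.r3.x2, m.r4.x2, m.r5.x2, m.r6.x2⟩, ⟨m.r0.x3, m.r1.x3, m.r2.x3, m.r3.x3, m.r4.x3, m.r5.x3, m.r6.x3⟩, ⟨m.r0.x4, m.r1.x4, m.r2.x4, m.r3.x4, m.r4.x4, m.r5.x4, m.r6.x4⟩, ⟨m.r0.x5, m.r1.x5, m.r2.x5, m.r3.x5, m.r4.x5, m.r5.x5, m.r6.x5⟩, ⟨m.r0.x6, m.r1.x6, m.r2.x6, m.r3.x6, m.r4.x6, m.r5.x6, m.r6.x6⟩⟩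

theorem tr_row_get (m : M7) (i j : Fin 7) : ((tr m).row i).get j = (m.row j).get i := by
  fin_cases i <;> fin_cases j <;> rfl

theorem toMat_tr (m : M7) : toMat (tr m) = (toMat m).transpose := by
  ext i j
  rw [toMat_apply, tr_row_get]
  rfl

/-- product -/
def mulM (a b : M7) : M7 := mulT a (tr b)

theorem toMat_mulM (a b : M7) : toMat (mulM a b) = toMat a * toMat b := by
  rw [mulM, toMat_mulT, toMat_tr, Matrix.transpose_transpose]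

/-- strict product -/
def mulMK {α : Type} (a b : M7) (k : M7 → α) : α := mulTK a (tr b) k

theorem mulMK_eq {α : Type} (a b : M7) (k : M7 → α) : mulMK a b k = k (mulM a b) := by
  rw [mulMK, mulTK_eq, mulM]

/-- `acc * m ^ n` -/
def powP (m : M7) : ℕ → M7 → M7
  | 0, acc => acc
  | n + 1, acc => powP m n (mulM acc m)

/-- strict version of `powP` -/
def powK {α : Type} (m : M7) : ℕ → M7 → (M7 → α) → α :=
  fun n => Nat.rec (motive := fun _ => M7 → (M7 → α) → α) (fun acc k => k acc)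
    (fun _ ih acc k => mulMK acc m (fun acc' => ih acc' k)) n

theorem powK_eq {α : Type} (m : M7) (n : ℕ) (acc : M7) (k : M7 → α) :
    powK m n acc k = k (powP m n acc) := by
  induction n generalizing acc with
  | zero => rfl
  | succ n ih =>
    show mulMK acc m (fun acc' => powK m n acc' k) = _
    rw [mulMK_eq, ih]
    rfl

theorem toMat_powP (m : M7) (n : ℕ) (acc : M7) : toMat (powP m n acc) = toMat acc * toMat m ^ n := by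
  induction n generalizing acc with
  | zero => simp [powP]
  | succ n ih => rw [powP, ih, toMat_mulM, pow_succ', mul_assoc]

/-- a number that determines the matrix over `ZMod 11` -/
def keyOf (m : M7) : ℕ :=
  Nat.add (Nat.mod m.r0.x0 11) (Nat.mul 11 (Nat.add (Nat.mod m.r0.x1 11) (Nat.mul 11 (Nat.add (Nat.mod m.r0.x2 11) (Nat.mul 11 (Nat.add (Nat.mod m.r0.x3 11) (Nat.mul 11 (Nat.add (Nat.mod m.r0.x4 11) (Nat.mul 11 (Nat.add (Nat.mod m.r0.x5 11) (Nat.mul 11 (Nat.add (Nat.mod m.r0.x6 11) (Nat.mul 11 (Nat.add (Nat.mod m.r1.x0 11) (Nat.mul 11 (Nat.add (Nat.mod m.r1.x1 11) (Nat.mul 11 (Nat.add (Nat.mod m.r1.x2 11) (Nat.mul 11 (Nat.add (Nat.mod m.r1.x3 11) (Nat.mul 11 (Nat.add (Nat.mod m.r1.x4 11) (Nat.mul 11 (Nat.add (Nat.mod m.r1.x5 11) (Nat.mul 11 (Nat.add (Nat.mod m.r1.x6 11) (Nat.mul 11 (Nat.add (Nat.mod m.r2.x0 11) (Nat.mul 11 (Nat.add (Nat.mod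 m.r2.x1 11) (Nat.mul 11 (Nat.add (Nat.mod m.r2.x2 11) (Nat.mul 11 (Nat.add (Nat.mod m.r2.x3 11) (Nat.mul 11 (Nat.add (Nat.mod m.r2.x4 11) (Nat.mul 11 (Nat.add (Nat.mod m.r2.x5 11) (Nat.mul 11 (Nat.add (Nat.mod m.r2.x6 11) (Nat.mul 11 (Nat.add (Nat.mod m.r3.x0 11) (Nat.mul 11 (Nat.add (Nat.mod m.r3.x1 11) (Nat.mul 11 (Nat.add (Nat.mod m.r3.x2 11) (Nat.mul 11 (Nat.add (Nat.mod m.r3.x3 11) (Nat.mul 11 (Nat.add (Nat.mod m.r3.x4 11) (Nat.mul 11 (Nat.add (Nat.mod m.r3.x5 11) (Nat.mul 11 (Nat.add (Nat.mod m.r3.x6 11) (Nat.mul 11 (Nat.add (Nat.mod m.r4.x0 11) (Nat.mul 11 (Nat.add (Nat.mod m.r4.x1 11) (Nat.mul 11 (Nat.add (Nat.mod m.r4.x2 11) (Nat.mul 11 (Nat.add (Nat.mod m.r4.x3 11) (Nat.mul 11 (Nat.add (Nat.mod m.r4.x4 11) (Nat.mul 11 (Nat.add (Nat.mod m.r4.x5 11) (Nat.mul 11 (Nat.add (Nat.mod m.r4.x6 11) (Nat.mul 11 (Nat.add (Nat.mod m.r5.x0 11) (Nat.mul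 11 (Nat.add (Nat.mod m.r5.x1 11) (Nat.mul 11 (Nat.add (Nat.mod m.r5.x2 11) (Nat.mul 11 (Nat.add (Nat.mod m.r5.x3 11) (Nat.mul 11 (Nat.add (Nat.mod m.r5.x4 11) (Nat.mul 11 (Nat.add (Nat.mod m.r5.x5 11) (Nat.mul 11 (Nat.add (Nat.mod m.r5.x6 11) (Nat.mul 11 (Nat.add (Nat.mod m.r6.x0 11) (Nat.mul 11 (Nat.add (Nat.mod m.r6.x1 11) (Nat.mul 11 (Nat.add (Nat.mod m.r6.x2 11) (Nat.mul 11 (Nat.add (Nat.mod m.r6.x3 11) (Nat.mul 11 (Nat.add (Nat.mod m.r6.x4 11) (Nat.mul 11 (Nat.add (Nat.mod m.r6.x5 11) (Nat.mul 11 (Nat.mod m.r6.x6 11))))))))))))))))))))))))))))))))))))))))))))))))))))))))))))))))))))))))))))))))))))))))))))))))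

theorem keyOf_eq_of_toMat_eq {a b : M7} (h : toMat a = toMat b) : keyOf a = keyOf b := by
  have h00 : Nat.mod a.r0.x0 11 = Nat.mod b.r0.x0 11 :=
    (ZMod.natCast_eq_natCast_iff' _ _ _).1 (congrFun (congrFun h 0) 0)
  have h01 : Nat.mod a.r0.x1 11 = Nat.mod b.r0.x1 11 :=
    (ZMod.natCast_eq_natCast_iff' _ _ _).1 (congrFun (congrFun h 0) 1)
  have h02 : Nat.mod a.r0.x2 11 = Nat.mod b.r0.x2 11 :=
    (ZMod.natCast_eq_natCast_iff' _ _ _).1 (congrFun (congrFun h 0) 2)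
  have h03 : Nat.mod a.r0.x3 11 = Nat.mod b.r0.x3 11 :=
    (ZMod.natCast_eq_natCast_iff' _ _ _).1 (congrFun (congrFun h 0) 3)
  have h04 : Nat.mod a.r0.x4 11 = Nat.mod b.r0.x4 11 :=
    (ZMod.natCast_eq_natCast_iff' _ _ _).1 (congrFun (congrFun h 0) 4)
  have h05 : Nat.mod a.r0.x5 11 = Nat.mod b.r0.x5 11 :=
    (ZMod.natCast_eq_natCast_iff' _ _ _).1 (congrFun (congrFun h 0) 5)
  have h06 : Nat.mod a.r0.x6 11 = Nat.mod b.r0.x6 11 :=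
    (ZMod.natCast_eq_natCast_iff' _ _ _).1 (congrFun (congrFun h 0) 6)
  have h10 : Nat.mod a.r1.x0 11 = Nat.mod b.r1.x0 11 :=
    (ZMod.natCast_eq_natCast_iff' _ _ _).1 (congrFun (congrFun h 1) 0)
  have h11 : Nat.mod a.r1.x1 11 = Nat.mod b.r1.x1 11 :=
    (ZMod.natCast_eq_natCast_iff' _ _ _).1 (congrFun (congrFun h 1) 1)
  have h12 : Nat.mod a.r1.x2 11 = Nat.mod b.r1.x2 11 :=
    (ZMod.natCast_eq_natCast_iff' _ _ _).1 (congrFun (congrFun h 1) 2)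
  have h13 : Nat.mod a.r1.x3 11 = Nat.mod b.r1.x3 11 :=
    (ZMod.natCast_eq_natCast_iff' _ _ _).1 (congrFun (congrFun h 1) 3)
  have h14 : Nat.mod a.r1.x4 11 = Nat.mod b.r1.x4 11 :=
    (ZMod.natCast_eq_natCast_iff' _ _ _).1 (congrFun (congrFun h 1) 4)
  have h15 : Nat.mod a.r1.x5 11 = Nat.mod b.r1.x5 11 :=
    (ZMod.natCast_eq_natCast_iff' _ _ _).1 (congrFun (congrFun h 1) 5)
  have h16 : Nat.mod a.r1.x6 11 = Nat.mod b.r1.x6 11 :=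
    (ZMod.natCast_eq_natCast_iff' _ _ _).1 (congrFun (congrFun h 1) 6)
  have h20 : Nat.mod a.r2.x0 11 = Nat.mod b.r2.x0 11 :=
    (ZMod.natCast_eq_natCast_iff' _ _ _).1 (congrFun (congrFun h 2) 0)
  have h21 : Nat.mod a.r2.x1 11 = Nat.mod b.r2.x1 11 :=
    (ZMod.natCast_eq_natCast_iff' _ _ _).1 (congrFun (congrFun h 2) 1)
  have h22 : Nat.mod a.r2.x2 11 = Nat.mod b.r2.x2 11 :=
    (ZMod.natCast_eq_natCast_iff' _ _ _).1 (congrFun (congrFun h 2) 2)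
  have h23 : Nat.mod a.r2.x3 11 = Nat.mod b.r2.x3 11 :=
    (ZMod.natCast_eq_natCast_iff' _ _ _).1 (congrFun (congrFun h 2) 3)
  have h24 : Nat.mod a.r2.x4 11 = Nat.mod b.r2.x4 11 :=
    (ZMod.natCast_eq_natCast_iff' _ _ _).1 (congrFun (congrFun h 2) 4)
  have h25 : Nat.mod a.r2.x5 11 = Nat.mod b.r2.x5 11 :=
    (ZMod.natCast_eq_natCast_iff' _ _ _).1 (congrFun (congrFun h 2) 5)
  have h26 : Nat.mod a.r2.x6 11 = Nat.mod b.r2.x6 11 :=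
    (ZMod.natCast_eq_natCast_iff' _ _ _).1 (congrFun (congrFun h 2) 6)
  have h30 : Nat.mod a.r3.x0 11 = Nat.mod b.r3.x0 11 :=
    (ZMod.natCast_eq_natCast_iff' _ _ _).1 (congrFun (congrFun h 3) 0)
  have h31 : Nat.mod a.r3.x1 11 = Nat.mod b.r3.x1 11 :=
    (ZMod.natCast_eq_natCast_iff' _ _ _).1 (congrFun (congrFun h 3) 1)
  have h32 : Nat.mod a.r3.x2 11 = Nat.mod b.r3.x2 11 :=
    (ZMod.natCast_eq_natCast_iff' _ _ _).1 (congrFun (congrFun h 3) 2)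
  have h33 : Nat.mod a.r3.x3 11 = Nat.mod b.r3.x3 11 :=
    (ZMod.natCast_eq_natCast_iff' _ _ _).1 (congrFun (congrFun h 3) 3)
  have h34 : Nat.mod a.r3.x4 11 = Nat.mod b.r3.x4 11 :=
    (ZMod.natCast_eq_natCast_iff' _ _ _).1 (congrFun (congrFun h 3) 4)
  have h35 : Nat.mod a.r3.x5 11 = Nat.mod b.r3.x5 11 :=
    (ZMod.natCast_eq_natCast_iff' _ _ _).1 (congrFun (congrFun h 3) 5)
  have h36 : Nat.mod a.r3.x6 11 = Nat.mod b.r3.x6 11 :=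
    (ZMod.natCast_eq_natCast_iff' _ _ _).1 (congrFun (congrFun h 3) 6)
  have h40 : Nat.mod a.r4.x0 11 = Nat.mod b.r4.x0 11 :=
    (ZMod.natCast_eq_natCast_iff' _ _ _).1 (congrFun (congrFun h 4) 0)
  have h41 : Nat.mod a.r4.x1 11 = Nat.mod b.r4.x1 11 :=
    (ZMod.natCast_eq_natCast_iff' _ _ _).1 (congrFun (congrFun h 4) 1)
  have h42 : Nat.mod a.r4.x2 11 = Nat.mod b.r4.x2 11 :=
    (ZMod.natCast_eq_natCast_iff' _ _ _).1 (congrFun (congrFun h 4) 2)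
  have h43 : Nat.mod a.r4.x3 11 = Nat.mod b.r4.x3 11 :=
    (ZMod.natCast_eq_natCast_iff' _ _ _).1 (congrFun (congrFun h 4) 3)
  have h44 : Nat.mod a.r4.x4 11 = Nat.mod b.r4.x4 11 :=
    (ZMod.natCast_eq_natCast_iff' _ _ _).1 (congrFun (congrFun h 4) 4)
  have h45 : Nat.mod a.r4.x5 11 = Nat.mod b.r4.x5 11 :=
    (ZMod.natCast_eq_natCast_iff' _ _ _).1 (congrFun (congrFun h 4) 5)
  have h46 : Nat.mod a.r4.x6 11 = Nat.mod b.r4.x6 11 :=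
    (ZMod.natCast_eq_natCast_iff' _ _ _).1 (congrFun (congrFun h 4) 6)
  have h50 : Nat.mod a.r5.x0 11 = Nat.mod b.r5.x0 11 :=
    (ZMod.natCast_eq_natCast_iff' _ _ _).1 (congrFun (congrFun h 5) 0)
  have h51 : Nat.mod a.r5.x1 11 = Nat.mod b.r5.x1 11 :=
    (ZMod.natCast_eq_natCast_iff' _ _ _).1 (congrFun (congrFun h 5) 1)
  have h52 : Nat.mod a.r5.x2 11 = Nat.mod b.r5.x2 11 :=
    (ZMod.natCast_eq_natCast_iff' _ _ _).1 (congrFun (congrFun h 5) 2)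
  have h53 : Nat.mod a.r5.x3 11 = Nat.mod b.r5.x3 11 :=
    (ZMod.natCast_eq_natCast_iff' _ _ _).1 (congrFun (congrFun h 5) 3)
  have h54 : Nat.mod a.r5.x4 11 = Nat.mod b.r5.x4 11 :=
    (ZMod.natCast_eq_natCast_iff' _ _ _).1 (congrFun (congrFun h 5) 4)
  have h55 : Nat.mod a.r5.x5 11 = Nat.mod b.r5.x5 11 :=
    (ZMod.natCast_eq_natCast_iff' _ _ _).1 (congrFun (congrFun h 5) 5)
  have h56 : Nat.mod a.r5.x6 11 = Nat.mod b.r5.x6 11 :=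
    (ZMod.natCast_eq_natCast_iff' _ _ _).1 (congrFun (congrFun h 5) 6)
  have h60 : Nat.mod a.r6.x0 11 = Nat.mod b.r6.x0 11 :=
    (ZMod.natCast_eq_natCast_iff' _ _ _).1 (congrFun (congrFun h 6) 0)
  have h61 : Nat.mod a.r6.x1 11 = Nat.mod b.r6.x1 11 :=
    (ZMod.natCast_eq_natCast_iff' _ _ _).1 (congrFun (congrFun h 6) 1)
  have h62 : Nat.mod a.r6.x2 11 = Nat.mod b.r6.x2 11 :=
    (ZMod.natCast_eq_natCast_iff' _ _ _).1 (congrFun (congrFun h 6) 2)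
  have h63 : Nat.mod a.r6.x3 11 = Nat.mod b.r6.x3 11 :=
    (ZMod.natCast_eq_natCast_iff' _ _ _).1 (congrFun (congrFun h 6) 3)
  have h64 : Nat.mod a.r6.x4 11 = Nat.mod b.r6.x4 11 :=
    (ZMod.natCast_eq_natCast_iff' _ _ _).1 (congrFun (congrFun h 6) 4)
  have h65 : Nat.mod a.r6.x5 11 = Nat.mod b.r6.x5 11 :=
    (ZMod.natCast_eq_natCast_iff' _ _ _).1 (congrFun (congrFun h 6) 5)
  have h66 : Nat.mod a.r6.x6 11 = Nat.mod b.r6.x6 11 :=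
    (ZMod.natCast_eq_natCast_iff' _ _ _).1 (congrFun (congrFun h 6) 6)
  unfold keyOf
  rw [h00, h01, h02, h03, h04, h05, h06, h10, h11, h12, h13, h14, h15, h16, h20, h21, h22, h23, h24, h25, h26, h30, h31, h32, h33, h34, h35, h36, h40, h41, h42, h43, h44, h45, h46, h50, h51, h52, h53, h54, h55, h56, h60, h61, h62, h63, h64, h65, h66]

end Cfsg.Agent.Helper17.J1
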