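import Mathlib
import Cfsg.Agent.Helper17.J1.Mat2
import Cfsg.Agent.Helper17.J1.Grp

/-!
# Kernel checks about conjugates (helper17)

Distinctness of a list of conjugates (by strictly increasing keys) and the candidate check used
for the automorphism group.
-/

set_option autoImplicit false

namespace Cfsg.Agent.Helper17.J1

open Cfsg.Agent.Helper17.TC (force force_eq)

/-- decoding of a word from a number: base 4 digits below a leading 1 -/
def decodeW (n : ℕ) : List ℕ :=
  Nat.rec (motive := fun _ => ℕ → List ℕ) (fun _ => [])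
    (fun _ ih m => cond (Nat.ble m 1) [] (Nat.land m 3 :: ih (Nat.shiftRight m 2))) 32 n

theorem blt_lt {a b : ℕ} (h : Nat.blt a b = true) : a < b := Nat.le_of_ble_eq_true h

section

variable (gT : ℕ → M7)

/-- key of the conjugate of `wt` by `c` -/
@[irreducible] def kf (wt c : List ℕ) : ℕ := keyOf (evalP gT (conjw c wt) one7)

/-- the keys of the conjugates are strictly increasing, larger than `lo` and at most `hi` -/
def incKB (wt : List ℕ) (hi : ℕ) : List (List ℕ) → ℕ → Bool :=
  fun cs => List.rec (motive := fun _ => ℕ → Bool) (fun prev => Nat.ble prev hi)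
    (fun c _ ih prev => evalK gT (conjw c wt) one7 fun m =>
      force (keyOf m) fun k => cond (Nat.blt prev k) (ih k) false) cs

theorem incKB_nil (wt : List ℕ) (hi prev : ℕ) : incKB gT wt hi [] prev = Nat.ble prev hi := rfl

theorem incKB_cons (wt c : List ℕ) (hi : ℕ) (cs : List (List ℕ)) (prev : ℕ) :
    incKB gT wt hi (c :: cs) prev =
      cond (Nat.blt prev (kf gT wt c)) (incKB gT wt hi cs (kf gT wt c)) false := by
  show (evalK gT (conjw c wt) one7 fun m =>
      force (keyOf m) fun k => cond (Nat.blt prev k) (incKB gT wt hi cs k) false) = _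
  rw [evalK_eq, force_eq]
  unfold kf
  rfl

/-- the keys of the list are strictly increasing and lie in `(lo, hi]` -/
def Inc (wt : List ℕ) (cs : List (List ℕ)) (lo hi : ℕ) : Prop :=
  (cs.map (kf gT wt)).Pairwise (· < ·) ∧ (∀ k ∈ cs.map (kf gT wt), lo < k ∧ k ≤ hi) ∧ lo ≤ hi

theorem incKB_spec (wt : List ℕ) (hi : ℕ) : ∀ (cs : List (List ℕ)) (lo : ℕ),
    incKB gT wt hi cs lo = true → Inc gT wt cs lo hi := by
  intro cs
  induction cs with
  | nil =>
    intro lo h
    rw [incKB_nil] at h
    exact ⟨by simp, by simp, Nat.le_of_ble_eq_true h⟩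
  | cons c cs ih =>
    intro lo h
    rw [incKB_cons] at h
    have hb : Nat.blt lo (kf gT wt c) = true := by
      by_contra hne
      rw [Bool.not_eq_true] at hne
      rw [hne] at h
      exact Bool.false_ne_true h
    rw [hb] at h
    have hlt : lo < kf gT wt c := blt_lt hb
    have h' : incKB gT wt hi cs (kf gT wt c) = true := h
    obtain ⟨h1, h2, h3⟩ := ih _ h'
    refine ⟨?_, ?_, le_trans (le_of_lt hlt) h3⟩
    · rw [List.map_cons, List.pairwise_cons]
      exact ⟨fun k hk => (h2 k hk).1, h1⟩
    · intro k hk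
      rw [List.map_cons, List.mem_cons] at hk
      rcases hk with rfl | hk
      · exact ⟨hlt, h3⟩
      · exact ⟨lt_trans hlt (h2 k hk).1, (h2 k hk).2⟩

variable {gT} in
theorem Inc.append {wt : List ℕ} {l1 l2 : List (List ℕ)} {lo mid hi : ℕ}
    (h1 : Inc gT wt l1 lo mid) (h2 : Inc gT wt l2 mid hi) : Inc gT wt (l1 ++ l2) lo hi := by
  obtain ⟨a1, a2, a3⟩ := h1
  obtain ⟨b1, b2, b3⟩ := h2
  refine ⟨?_, ?_, le_trans a3 b3⟩
  · rw [List.map_append, List.pairwise_append]
    exact ⟨a1, b1, fun x hx y hy => lt_of_le_of_lt (a2 x hx).2 (b2 y hy).1⟩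
  · intro k hk
    rw [List.map_append, List.mem_append] at hk
    rcases hk with hk | hk
    · exact ⟨(a2 k hk).1, le_trans (a2 k hk).2 b3⟩
    · exact ⟨lt_of_le_of_lt a3 (b2 k hk).1, (b2 k hk).2⟩

/-- candidate check: `s = c b c⁻¹`; either `(a s) ^ 7 ≠ 1`, or `(a s a s s) ^ 19 ≠ 1`, or `c` commutes
with `a` -/
def chkCand (Am : M7) (wa wb c : List ℕ) : Bool :=
  evalK gT (conjw c wb) one7 fun S =>
  mulMK Am S fun AS =>
  powK AS 7 one7 fun P7 =>
  cond (Nat.beq (keyOf P7) (keyOf one7))
    (mulMK AS AS fun AS2 => mulMK AS2 S fun W =>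
      powK W 19 one7 fun P19 =>
      cond (Nat.beq (keyOf P19) (keyOf one7)) (chkEq gT (c ++ wa) (wa ++ c)) true)
    true

variable {gT}
variable {G : Type*} [Group G] (φ : G →* Matrix (Fin 7) (Fin 7) (ZMod 11))
  (hφ : Function.Injective φ) (x y : G) (hg : ∀ l, (toMat (gT l)).transpose = φ (cols x y l))

include hg in
theorem toMat_evalP_one (w : List ℕ) : toMat (evalP gT w one7) = φ (ev x y w) := by
  have := evalP_spec φ (cols x y) hg w one7
  rw [toMat_one7, one_mul] at this
  exact this

include hg in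
/-- the conjugates by the words of the list are pairwise distinct -/
theorem conj_distinct (wt : List ℕ) (cs : List (List ℕ)) {lo hi : ℕ} (h : Inc gT wt cs lo hi) :
    Function.Injective fun i : Fin cs.length => ev x y (conjw (cs.get i) wt) := by
  intro i j e
  have hnd : (cs.map (kf gT wt)).Nodup := by
    have := h.1
    exact this.imp (fun hlt => ne_of_lt hlt)
  have e2 : kf gT wt (cs.get i) = kf gT wt (cs.get j) := by
    unfold kf
    apply keyOf_eq_of_toMat_eq
    rw [toMat_evalP_one φ x y hg, toMat_evalP_one φ x y hg]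
    exact congrArg φ e
  have hi : i.1 < (cs.map (kf gT wt)).length := by rw [List.length_map]; exact i.2
  have hj : j.1 < (cs.map (kf gT wt)).length := by rw [List.length_map]; exact j.2
  have e3 : (cs.map (kf gT wt)).get ⟨i.1, hi⟩ = (cs.map (kf gT wt)).get ⟨j.1, hj⟩ := by
    simp only [List.get_eq_getElem, List.getElem_map]
    exact e2
  have := (List.Nodup.get_inj_iff hnd).1 e3
  exact Fin.ext (by simpa using this)

include hφ hg in
theorem chkCand_spec (Am : M7) (wa wb c : List ℕ) (hA : toMat Am = φ (ev x y wa))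
    (h : chkCand gT Am wa wb c = true) :
    (ev x y wa * ev x y (conjw c wb)) ^ 7 = 1 →
    (ev x y wa * ev x y (conjw c wb) * (ev x y wa * ev x y (conjw c wb)) * ev x y (conjw c wb)) ^ 19 = 1 →
    ev x y c * ev x y wa = ev x y wa * ev x y c := by
  intro h7 h19
  simp only [chkCand, evalK_eq, mulMK_eq, powK_eq] at h
  set S := evalP gT (conjw c wb) one7 with hS
  have eS : toMat S = φ (ev x y (conjw c wb)) := toMat_evalP_one φ x y hg _
  have eAS : toMat (mulM Am S) = φ (ev x y wa * ev x y (conjw c wb)) := by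
    rw [toMat_mulM, hA, eS, map_mul]
  have e7 : toMat (powP (mulM Am S) 7 one7) = toMat one7 := by
    rw [toMat_powP, toMat_one7, one_mul, eAS, ← map_pow, h7, map_one]
  have k7 : Nat.beq (keyOf (powP (mulM Am S) 7 one7)) (keyOf one7) = true := by
    rw [keyOf_eq_of_toMat_eq e7]
    exact Nat.beq_refl _
  rw [k7] at h
  simp only [cond_true] at h
  have eAS2 : toMat (mulM (mulM Am S) (mulM Am S)) =
      φ (ev x y wa * ev x y (conjw c wb) * (ev x y wa * ev x y (conjw c wb))) := by
    rw [toMat_mulM, eAS, ← map_mul]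
  have eW : toMat (mulM (mulM (mulM Am S) (mulM Am S)) S) =
      φ (ev x y wa * ev x y (conjw c wb) * (ev x y wa * ev x y (conjw c wb)) * ev x y (conjw c wb)) := by
    rw [toMat_mulM, eAS2, eS, ← map_mul]
  have e19 : toMat (powP (mulM (mulM (mulM Am S) (mulM Am S)) S) 19 one7) = toMat one7 := by
    rw [toMat_powP, toMat_one7, one_mul, eW, ← map_pow, h19, map_one]
  have k19 : Nat.beq (keyOf (powP (mulM (mulM (mulM Am S) (mulM Am S)) S) 19 one7)) (keyOf one7) = true := by
    rw [keyOf_eq_of_toMat_eq e19]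
    exact Nat.beq_refl _
  rw [k19] at h
  simp only [cond_true] at h
  have := word_eq φ hφ (cols x y) hg h
  have e1 : ev x y (c ++ wa) = ev x y (wa ++ c) := this
  rwa [ev_append, ev_append] at e1

end

end Cfsg.Agent.Helper17.J1
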