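import Mathlib
import Cfsg.Agent.Helper17.J1.Conc
import Cfsg.Agent.Helper17.J1.Mat3
import Cfsg.Agent.Helper17.J1.Grp3
import Cfsg.Agent.Helper17.J1.ChkA

/-!
# The centralizer of an involution of `J₁` is `2 × A₅` (helper17)
-/

set_option autoImplicit false

namespace Cfsg.Agent.Helper17.J1

open Cfsg Cfsg.Spor Cfsg.Agent.Helper17

/-- the involution `a` -/
def ja : Cfsg.Spor.J1 := ev jx jy wa

theorem ja_sq : ja ^ 2 = 1 := by
  have h : ev jx jy (wa ++ wa) = ev jx jy [] := ev_eq (by decide +kernel)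
  rw [ev_append, ev_nil] at h
  rw [pow_two]
  exact h

theorem ja_ne : ja ≠ 1 := by
  have h : ev jx jy wa ≠ ev jx jy [] := ev_ne (by decide +kernel)
  rwa [ev_nil] at h

theorem card_centralizer_ja :
    Nat.card (Subgroup.centralizer ({ja} : Set Cfsg.Spor.J1)) ≤ 120 := by
  have hinj := conj_distinct toM jx jy hgT wa csA incA
  have h := card_centralizer_mul_le ja csA.length
    (fun i => ev jx jy (csA.get i)) (by
      intro i j e
      apply hinj
      simp only [ev_conjw]
      exact e)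
  clear hinj
  rw [J1_simple_card.2, csA_length] at h
  have h2 : Nat.card (Subgroup.centralizer ({ja} : Set Cfsg.Spor.J1)) * 1463 ≤ 120 * 1463 :=
    le_trans h (by norm_num)
  exact Nat.le_of_mul_le_mul_right h2 (by norm_num)

/-- generators of `A₅` -/
def sg : Equiv.Perm (Fin 5) := Equiv.swap 0 1 * Equiv.swap 2 3

def ta : Equiv.Perm (Fin 5) := Equiv.swap 0 2 * Equiv.swap 2 4

theorem sg_mem : sg ∈ alternatingGroup (Fin 5) := by
  rw [Equiv.Perm.mem_alternatingGroup]
  decide

theorem ta_mem : ta ∈ alternatingGroup (Fin 5) := by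
  rw [Equiv.Perm.mem_alternatingGroup]
  decide

def sgA : alternatingGroup (Fin 5) := ⟨sg, sg_mem⟩

def taA : alternatingGroup (Fin 5) := ⟨ta, ta_mem⟩

/-- the table of words -/
def W60 (i : Fin 60) : List ℕ := WL.getD i []

def nx60 (i : Fin 60) : Fin 60 := Fin.ofNat 60 (nxL.getD i 0)

def ny60 (i : Fin 60) : Fin 60 := Fin.ofNat 60 (nyL.getD i 0)

/-- a number determining a permutation of five points -/
def permKey (π : Equiv.Perm (Fin 5)) : ℕ :=
  (π 0).val + 5 * ((π 1).val + 5 * ((π 2).val + 5 * ((π 3).val + 5 * (π 4).val)))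

set_option maxHeartbeats 0 in
theorem hAx' : ∀ i : Fin 60, ev sg ta (W60 i ++ [0]) = ev sg ta (W60 (nx60 i)) := by decide +kernel

set_option maxHeartbeats 0 in
theorem hAy' : ∀ i : Fin 60, ev sg ta (W60 i ++ [2]) = ev sg ta (W60 (ny60 i)) := by decide +kernel

set_option maxHeartbeats 0 in
theorem hkeyA : ∀ i j : Fin 60, permKey (ev sg ta (W60 i)) = permKey (ev sg ta (W60 j)) → i = j := by
  decide +kernel

theorem hpos60 : ∀ i : Fin 60, ∀ l ∈ W60 i, l = 0 ∨ l = 2 := by decide +kernel

/-- the generators of the `A₅` in the centralizer -/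
def jp : Cfsg.Spor.J1 := ev jx jy wp

def jq : Cfsg.Spor.J1 := ev jx jy wq

set_option maxHeartbeats 0 in
theorem hKx0 : ∀ i : Fin 60, i.val % 3 = 0 →
    chkEq gT (subst wp wq (W60 i ++ [0])) (subst wp wq (W60 (nx60 i))) = true := by
  decide +kernel

set_option maxHeartbeats 0 in
theorem hKx1 : ∀ i : Fin 60, i.val % 3 = 1 →
    chkEq gT (subst wp wq (W60 i ++ [0])) (subst wp wq (W60 (nx60 i))) = true := by
  decide +kernel

set_option maxHeartbeats 0 in
theorem hKx2 : ∀ i : Fin 60, i.val % 3 = 2 →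
    chkEq gT (subst wp wq (W60 i ++ [0])) (subst wp wq (W60 (nx60 i))) = true := by
  decide +kernel

theorem hKx' (i : Fin 60) : chkEq gT (subst wp wq (W60 i ++ [0])) (subst wp wq (W60 (nx60 i))) = true := by
  have h : i.val % 3 < 3 := Nat.mod_lt _ (by norm_num)
  have h' : i.val % 3 = 0 ∨ i.val % 3 = 1 ∨ i.val % 3 = 2 := by omega
  rcases h' with h0 | h1 | h2
  · exact hKx0 i h0
  · exact hKx1 i h1
  · exact hKx2 i h2

set_option maxHeartbeats 0 in
theorem hKy0 : ∀ i : Fin 60, i.val % 3 = 0 →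
    chkEq gT (subst wp wq (W60 i ++ [2])) (subst wp wq (W60 (ny60 i))) = true := by
  decide +kernel

set_option maxHeartbeats 0 in
theorem hKy1 : ∀ i : Fin 60, i.val % 3 = 1 →
    chkEq gT (subst wp wq (W60 i ++ [2])) (subst wp wq (W60 (ny60 i))) = true := by
  decide +kernel

set_option maxHeartbeats 0 in
theorem hKy2 : ∀ i : Fin 60, i.val % 3 = 2 →
    chkEq gT (subst wp wq (W60 i ++ [2])) (subst wp wq (W60 (ny60 i))) = true := by
  decide +kernel

theorem hKy' (i : Fin 60) : chkEq gT (subst wp wq (W60 i ++ [2])) (subst wp wq (W60 (ny60 i))) = true := by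
  have h : i.val % 3 < 3 := Nat.mod_lt _ (by norm_num)
  have h' : i.val % 3 = 0 ∨ i.val % 3 = 1 ∨ i.val % 3 = 2 := by omega
  rcases h' with h0 | h1 | h2
  · exact hKy0 i h0
  · exact hKy1 i h1
  · exact hKy2 i h2

theorem jp_comm : jp * ja = ja * jp := by
  have h : ev jx jy (wp ++ wa) = ev jx jy (wa ++ wp) := ev_eq (by decide +kernel)
  rwa [ev_append, ev_append] at h

theorem jq_comm : jq * ja = ja * jq := by
  have h : ev jx jy (wq ++ wa) = ev jx jy (wa ++ wq) := ev_eq (by decide +kernel)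
  rwa [ev_append, ev_append] at h

theorem jp_ne : jp ≠ 1 := by
  have h : ev jx jy wp ≠ ev jx jy [] := ev_ne (by decide +kernel)
  rwa [ev_nil] at h

/-- the enumeration of `A₅` -/
def f60 (i : Fin 60) : alternatingGroup (Fin 5) := ev sgA taA (W60 i)

theorem f60_coe (i : Fin 60) : ((f60 i : alternatingGroup (Fin 5)) : Equiv.Perm (Fin 5)) = ev sg ta (W60 i) :=
  coe_ev _ sgA taA _

theorem f60_bij : Function.Bijective f60 := by
  have hinj : Function.Injective f60 := by
    intro i j e
    apply hkeyA i j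
    rw [← f60_coe, ← f60_coe, e]
  apply hinj.bijective_of_nat_card_le
  rw [nat_card_alternatingGroup]
  simp [Nat.factorial]

/-- the centralizer of the involution `a` of `J₁` -/
theorem centralizer_ja :
    orderOf ja = 2 ∧ Nonempty (Subgroup.centralizer ({ja} : Set Cfsg.Spor.J1) ≃*
      Multiplicative (ZMod 2) × alternatingGroup (Fin 5)) := by
  refine ⟨orderOf_eq_prime ja_sq ja_ne, ?_⟩
  obtain ⟨F, hF⟩ := hom_of_table sgA taA jp jq W60 nx60 ny60 (Equiv.ofBijective f60 f60_bij)
    (fun i => rfl) 0 rfl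
    (fun i => Subtype.ext (by rw [coe_ev, coe_ev]; exact hAx' i))
    (fun i => Subtype.ext (by rw [coe_ev, coe_ev]; exact hAy' i))
    (fun i => by
      have := ev_eq (hKx' i)
      rwa [ev_subst, ev_subst] at this)
    (fun i => by
      have := ev_eq (hKy' i)
      rwa [ev_subst, ev_subst] at this)
    hpos60
  have hle : Subgroup.closure ({jp, jq} : Set Cfsg.Spor.J1) ≤ Subgroup.centralizer ({ja} : Set Cfsg.Spor.J1) := by
    rw [Subgroup.closure_le]
    intro z hz
    rw [Set.mem_insert_iff, Set.mem_singleton_iff] at hz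
    show z ∈ Subgroup.centralizer ({ja} : Set Cfsg.Spor.J1)
    rw [Subgroup.mem_centralizer_iff]
    intro h hh
    rw [Set.mem_singleton_iff] at hh
    rw [hh]
    rcases hz with rfl | rfl
    · exact jp_comm.symm
    · exact jq_comm.symm
  refine centralizer_iso ja ja_sq ja_ne card_centralizer_ja F ?_ ?_
  · intro g
    obtain ⟨i, rfl⟩ := f60_bij.2 g
    have h1 : F (f60 i) = ev jp jq (W60 i) := hF (W60 i) (hpos60 i)
    have h2 : ev jp jq (W60 i) ∈ Subgroup.centralizer ({ja} : Set Cfsg.Spor.J1) :=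
      hle (ev_mem_closure _ _ _)
    rw [Subgroup.mem_centralizer_iff] at h2
    rw [h1]
    exact (h2 ja (Set.mem_singleton _)).symm
  · refine ⟨ev sgA taA [0], ?_⟩
    rw [hF [0] (by simp)]
    have : ev jp jq [0] = jp := by simp [ev, cols]
    rw [this]
    exact jp_ne

end Cfsg.Agent.Helper17.J1
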