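import Mathlib
import Cfsg.Prelude.Def_KGroupFacts
import Cfsg.Agent.Helper17.J1.Conc2
import Cfsg.Agent.Helper17.J1.ChkBC

/-!
# Every automorphism of `J₁` is inner (helper17)
-/

set_option autoImplicit false

namespace Cfsg.Agent.Helper17.J1

open Cfsg Cfsg.Spor Cfsg.Agent.Helper17

section General

variable {K : Type*} [Group K]

theorem dvd_card_centralizer [Finite K] (t g : K) {p : ℕ} (hp : p.Prime) (hc : g * t = t * g)
    (hg : g ^ p = 1) (hg1 : g ≠ 1) : p ∣ Nat.card (Subgroup.centralizer ({t} : Set K)) := by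
  have hmem : g ∈ Subgroup.centralizer ({t} : Set K) := by
    rw [Subgroup.mem_centralizer_iff]
    intro h hh
    rw [Set.mem_singleton_iff] at hh
    rw [hh]
    exact hc.symm
  have h1 : (⟨g, hmem⟩ : Subgroup.centralizer ({t} : Set K)) ^ p = 1 := Subtype.ext (by simpa using hg)
  have h2 : (⟨g, hmem⟩ : Subgroup.centralizer ({t} : Set K)) ≠ 1 := by
    intro e
    exact hg1 (congrArg Subtype.val e)
  exact prime_dvd_card hp h1 h2

theorem mem_zpowers_three {b z : K} (hb3 : b ^ 3 = 1) (hz : z ∈ Subgroup.zpowers b) :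
    z = 1 ∨ z = b ∨ z = b⁻¹ := by
  obtain ⟨k, rfl⟩ := Subgroup.mem_zpowers_iff.1 hz
  have h1 : b ^ k = b ^ (k % ((3 : ℕ) : ℤ)) := zpow_eq_zpow_emod' k hb3
  have h2 : 0 ≤ k % ((3 : ℕ) : ℤ) := Int.emod_nonneg k (by norm_num)
  have h3 : k % ((3 : ℕ) : ℤ) < 3 := Int.emod_lt_of_pos k (by norm_num)
  obtain ⟨r, hr⟩ : ∃ r : ℕ, k % ((3 : ℕ) : ℤ) = r := ⟨(k % ((3 : ℕ) : ℤ)).toNat, (Int.toNat_of_nonneg h2).symm⟩
  rw [hr] at h1 h3
  have hr3 : r < 3 := by exact_mod_cast h3
  rw [h1, zpow_natCast]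
  interval_cases r
  · left; simp
  · right; left; simp
  · right; right
    apply eq_inv_of_mul_eq_one_left
    rw [← pow_succ]
    exact hb3

end General

/-- the element `b` of order 3 -/
def jb : Cfsg.Spor.J1 := ev jx jy wb

theorem jb_cube : jb ^ 3 = 1 := by
  have h : ev jx jy (poww wb 3) = ev jx jy [] := ev_eq (by decide +kernel)
  rwa [ev_poww, ev_nil] at h

theorem jb_ne : jb ≠ 1 := by
  have h : ev jx jy wb ≠ ev jx jy [] := ev_ne (by decide +kernel)
  rwa [ev_nil] at h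

theorem jab7 : (ja * jb) ^ 7 = 1 := by
  have h : ev jx jy (poww (wa ++ wb) 7) = ev jx jy [] := ev_eq (by decide +kernel)
  rwa [ev_poww, ev_append, ev_nil] at h

theorem jab19 : (ja * jb * (ja * jb) * jb) ^ 19 = 1 := by
  have h : ev jx jy (poww ((wa ++ wb) ++ (wa ++ wb) ++ wb) 19) = ev jx jy [] := ev_eq (by decide +kernel)
  rwa [ev_poww, ev_append, ev_append, ev_append, ev_nil] at h

theorem gen_ab : Subgroup.closure ({ja, jb} : Set Cfsg.Spor.J1) = ⊤ := by
  have hx : ev ja jb wxab = jx := by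
    have h := data.gx
    rw [ev_subst] at h
    have h' : ev ja jb wxab = ev jx jy [0] := h
    rw [h']
    simp [ev, cols]
  have hy : ev ja jb wyab = jy := by
    have h := data.gy
    rw [ev_subst] at h
    have h' : ev ja jb wyab = ev jx jy [2] := h
    rw [h']
    simp [ev, cols]
  rw [eq_top_iff, ← gen_top, Subgroup.closure_le]
  intro z hz
  rw [Set.mem_insert_iff, Set.mem_singleton_iff] at hz
  rcases hz with rfl | rfl
  · rw [← hx]; exact ev_mem_closure _ _ _
  · rw [← hy]; exact ev_mem_closure _ _ _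

theorem Am_eq : toMat Am = toM (ev jx jy wa) := by
  have h : evalK gT wa one7 (fun m => M7.beq m Am) = true := by decide +kernel
  rw [evalK_eq] at h
  rw [← M7.eq_of_beq h]
  exact toMat_evalP_one toM jx jy hgT wa

theorem card_centralizer_jb : 30 ≤ Nat.card (Subgroup.centralizer ({jb} : Set Cfsg.Spor.J1)) := by
  have d3 : 3 ∣ Nat.card (Subgroup.centralizer ({jb} : Set Cfsg.Spor.J1)) :=
    dvd_card_centralizer jb jb Nat.prime_three rfl jb_cube jb_ne
  have d2 : 2 ∣ Nat.card (Subgroup.centralizer ({jb} : Set Cfsg.Spor.J1)) := by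
    refine dvd_card_centralizer jb (ev jx jy we2) Nat.prime_two ?_ ?_ ?_
    · have h : ev jx jy (we2 ++ wb) = ev jx jy (wb ++ we2) := ev_eq (by decide +kernel)
      rwa [ev_append, ev_append] at h
    · have h : ev jx jy (poww we2 2) = ev jx jy [] := ev_eq (by decide +kernel)
      rwa [ev_poww, ev_nil] at h
    · have h : ev jx jy we2 ≠ ev jx jy [] := ev_ne (by decide +kernel)
      rwa [ev_nil] at h
  have d5 : 5 ∣ Nat.card (Subgroup.centralizer ({jb} : Set Cfsg.Spor.J1)) := by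
    refine dvd_card_centralizer jb (ev jx jy we5) Nat.prime_five ?_ ?_ ?_
    · have h : ev jx jy (we5 ++ wb) = ev jx jy (wb ++ we5) := ev_eq (by decide +kernel)
      rwa [ev_append, ev_append] at h
    · have h : ev jx jy (poww we5 5) = ev jx jy [] := ev_eq (by decide +kernel)
      rwa [ev_poww, ev_nil] at h
    · have h : ev jx jy we5 ≠ ev jx jy [] := ev_ne (by decide +kernel)
      rwa [ev_nil] at h
  have e1 : 3 * 5 ∣ Nat.card (Subgroup.centralizer ({jb} : Set Cfsg.Spor.J1)) :=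
    Nat.Coprime.mul_dvd_of_dvd_of_dvd (by norm_num) d3 d5
  have e2 : 2 * (3 * 5) ∣ Nat.card (Subgroup.centralizer ({jb} : Set Cfsg.Spor.J1)) :=
    Nat.Coprime.mul_dvd_of_dvd_of_dvd (by norm_num) d2 e1
  exact Nat.le_of_dvd Nat.card_pos e2

theorem conj_b_covered (g : Cfsg.Spor.J1) :
    ∃ i : Fin csB.length, g * jb * g⁻¹ = ev jx jy (conjw (csB.get i) wb) := by
  have hinj := conj_distinct toM jx jy hgT wb csB incB
  have hinj' : Function.Injective fun i : Fin csB.length =>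
      ev jx jy (csB.get i) * jb * (ev jx jy (csB.get i))⁻¹ := by
    intro i j e
    apply hinj
    simp only [ev_conjw]
    exact e
  have hcard : Nat.card Cfsg.Spor.J1 ≤
      Nat.card (Subgroup.centralizer ({jb} : Set Cfsg.Spor.J1)) * csB.length := by
    rw [J1_simple_card.2, csB_length]
    calc 175560 = 30 * 5852 := by norm_num
      _ ≤ _ := Nat.mul_le_mul_right _ card_centralizer_jb
  obtain ⟨i, hi⟩ := conj_covered jb csB.length (fun i => ev jx jy (csB.get i)) hinj' hcard g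
  exact ⟨i, by rw [ev_conjw]; exact hi⟩

theorem hQ_J1 (g : Cfsg.Spor.J1) (h7 : (ja * (g * jb * g⁻¹)) ^ 7 = 1)
    (h19 : (ja * (g * jb * g⁻¹) * (ja * (g * jb * g⁻¹)) * (g * jb * g⁻¹)) ^ 19 = 1) :
    ∃ d, d * ja = ja * d ∧ g * jb * g⁻¹ = d * jb * d⁻¹ := by
  obtain ⟨i, hi⟩ := conj_b_covered g
  have hc : csB.get i ∈ csB := List.get_mem _ _
  have key := chkCand_spec toM toM_inj jx jy hgT Am wa wb (csB.get i) Am_eq (candB _ hc)
  rw [← hi] at key
  refine ⟨ev jx jy (csB.get i), key h7 h19, ?_⟩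
  rw [hi, ev_conjw]
  rfl

theorem hinv_J1 (t : Cfsg.Spor.J1) (ht : orderOf t = 2) : ∃ g, t = g * ja * g⁻¹ := by
  obtain ⟨P2, hP2c, hP2e⟩ := exists_p2 (fun s => ev jx jy (p2w s)) rfl
    (fun s t => by rw [← ev_append]; exact data.p2mul s t)
    (fun s hs => by have := data.p2ne s hs; rwa [ev_nil] at this)
  obtain ⟨g, hg⟩ := conj_into_sylow P2 Nat.prime_two hP2c
    (by rw [J1_simple_card.2]; norm_num) t ht
  have ht1 : t ≠ 1 := by
    intro e
    rw [e, orderOf_one] at ht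
    exact absurd ht (by norm_num)
  have hne : g * t * g⁻¹ ≠ 1 := by
    intro e
    apply ht1
    have := congrArg (fun u => g⁻¹ * u * g) e
    simpa [mul_assoc] using this
  obtain ⟨s, hs, hz⟩ := hP2e _ hg hne
  have hz' : g * t * g⁻¹ = ev jx jy (p2c s) * ja * (ev jx jy (p2c s))⁻¹ := by
    rw [hz]
    show ev jx jy (p2w s) = _
    rw [data.p2conj s hs, ev_conjw]
    rfl
  refine ⟨g⁻¹ * ev jx jy (p2c s), ?_⟩
  have e1 : t = g⁻¹ * (g * t * g⁻¹) * g := by group
  rw [e1, hz']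
  group

theorem hthree_J1 (s : Cfsg.Spor.J1) (hs : orderOf s = 3) : ∃ g, s = g * jb * g⁻¹ := by
  obtain ⟨g, hg⟩ := conj_into_sylow (Subgroup.zpowers jb) Nat.prime_three
    (card_zpowers_prime Nat.prime_three jb_cube jb_ne)
    (by rw [J1_simple_card.2]; norm_num) s hs
  have hs1 : s ≠ 1 := by
    intro e
    rw [e, orderOf_one] at hs
    exact absurd hs (by norm_num)
  have hne : g * s * g⁻¹ ≠ 1 := by
    intro e
    apply hs1
    have := congrArg (fun u => g⁻¹ * u * g) e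
    simpa [mul_assoc] using this
  have e1 : s = g⁻¹ * (g * s * g⁻¹) * g := by group
  rcases mem_zpowers_three jb_cube hg with h | h | h
  · exact absurd h hne
  · refine ⟨g⁻¹, ?_⟩
    rw [e1, h]
    group
  · have hc : ev jx jy wcbi * jb * (ev jx jy wcbi)⁻¹ = jb⁻¹ := by
      have h' : ev jx jy (conjw wcbi wb) = ev jx jy (invw wb) := ev_eq (by decide +kernel)
      rw [ev_conjw, ev_invw] at h'
      exact h'
    refine ⟨g⁻¹ * ev jx jy wcbi, ?_⟩
    rw [e1, h, ← hc]
    group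

/-- every automorphism of `J₁` is inner -/
theorem out_J1 : Nat.card (Cfsg.Out Cfsg.Spor.J1) = 1 := by
  have h := aut_inner ja jb gen_ab ja_sq ja_ne jb_cube jb_ne jab7 jab19 hinv_J1 hthree_J1 hQ_J1
  have htop : Cfsg.Inn Cfsg.Spor.J1 = ⊤ := by
    rw [eq_top_iff]
    intro φ _
    obtain ⟨g, rfl⟩ := h φ
    exact ⟨g, rfl⟩
  show (Cfsg.Inn Cfsg.Spor.J1).index = 1
  rw [htop]
  exact Subgroup.index_top

end Cfsg.Agent.Helper17.J1
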