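import Mathlib
import Cfsg.Prelude.Def_KGroupFacts

/-!
# Triviality of stem extensions through the transfer (helper17)

If `σ : Γ →* G` is a finite stem extension and, for every prime `p` dividing `|G|`, some subgroup
`P` of index prime to `p` has a commutative preimage, then `σ` is injective.
-/

set_option autoImplicit false

namespace Cfsg.Agent.Helper17.J1

section Schur

variable {Γ : Type*} {G : Type*} [Group Γ] [Group G]

/-- preimages of subgroups generated by the images of commuting elements are commutative -/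
theorem comm_of_closure (σ : Γ →* G) (hker : σ.ker ≤ Subgroup.center Γ) (S : Set Γ)
    (hS : ∀ x ∈ S, ∀ y ∈ S, x * y = y * x) {x y : Γ} (hx : σ x ∈ Subgroup.closure (σ '' S))
    (hy : σ y ∈ Subgroup.closure (σ '' S)) : x * y = y * x := by
  rw [← MonoidHom.map_closure] at hx hy
  obtain ⟨x', hx', ex⟩ := hx
  obtain ⟨y', hy', ey⟩ := hy
  have hkx : x'⁻¹ * x ∈ Subgroup.center Γ :=
    hker (by rw [MonoidHom.mem_ker, map_mul, map_inv, ex, inv_mul_cancel])
  have hky : y'⁻¹ * y ∈ Subgroup.center Γ :=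
    hker (by rw [MonoidHom.mem_ker, map_mul, map_inv, ey, inv_mul_cancel])
  have hc : x' * y' = y' * x' := by
    have hcm := Subgroup.isMulCommutative_closure hS
    exact congrArg Subtype.val (mul_comm' (⟨x', hx'⟩ : Subgroup.closure S) ⟨y', hy'⟩)
  rw [Subgroup.mem_center_iff] at hkx hky
  have e1 : x = x' * (x'⁻¹ * x) := by group
  have e2 : y = y' * (y'⁻¹ * y) := by group
  generalize x'⁻¹ * x = k at hkx e1
  generalize y'⁻¹ * y = l at hky e2
  rw [e1, e2]
  calc x' * k * (y' * l) = x' * (k * y') * l := by group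
    _ = x' * (y' * k) * l := by rw [hkx y']
    _ = x' * y' * (k * l) := by group
    _ = y' * x' * (l * k) := by rw [hc, hkx l]
    _ = y' * (x' * l) * k := by group
    _ = y' * (l * x') * k := by rw [hky x']
    _ = y' * l * (x' * k) := by group

/-- the transfer into a commutative preimage kills central commutators -/
theorem pow_index_eq_one [Finite Γ] (σ : Γ →* G) (hs : Function.Surjective σ) (P : Subgroup G)
    (hP : ∀ x y, σ x ∈ P → σ y ∈ P → x * y = y * x) {z : Γ} (hzc : z ∈ Subgroup.center Γ)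
    (hzd : z ∈ commutator Γ) : z ^ P.index = 1 := by
  let _ : CommGroup (P.comap σ) :=
    { (inferInstance : Group (P.comap σ)) with
      mul_comm := fun a b => Subtype.ext (hP a b a.2 b.2) }
  have key : ∀ (k : ℕ) (g₀ : Γ), g₀⁻¹ * z ^ k * g₀ ∈ P.comap σ → g₀⁻¹ * z ^ k * g₀ = z ^ k := by
    intro k g₀ _
    have h := pow_mem hzc k
    rw [Subgroup.mem_center_iff] at h
    rw [mul_assoc, ← h g₀, inv_mul_cancel_left]
  have h1 := MonoidHom.transfer_eq_pow (MonoidHom.id (P.comap σ)) z key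
  have h2 : MonoidHom.transfer (MonoidHom.id (P.comap σ)) z = 1 :=
    Abelianization.commutator_subset_ker (MonoidHom.transfer (MonoidHom.id (P.comap σ))) hzd
  rw [h2] at h1
  have h3 : z ^ (P.comap σ).index = 1 := (congrArg Subtype.val h1).symm
  rwa [Subgroup.index_comap_of_surjective P hs] at h3

/-- a finite stem extension is injective when enough subgroups have commutative preimages -/
theorem ker_eq_bot_of_comm [Finite Γ] (σ : Γ →* G) (hσ : Cfsg.IsStemExtension σ)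
    (h : ∀ p : ℕ, p.Prime → p ∣ Nat.card G → ∃ P : Subgroup G, ¬ p ∣ P.index ∧
      ∀ x y, σ x ∈ P → σ y ∈ P → x * y = y * x) : σ.ker = ⊥ := by
  obtain ⟨hs, hc, hd⟩ := hσ
  rw [eq_bot_iff]
  intro z hz
  rw [Subgroup.mem_bot]
  have h0 : z ^ Nat.card G = 1 := by
    have := pow_index_eq_one σ hs ⊥ (fun x y hx hy => by
      have hx' : x ∈ Subgroup.center Γ := hc (by rwa [Subgroup.mem_bot] at hx)
      rw [Subgroup.mem_center_iff] at hx'
      exact (hx' y).symm) (hc hz) (hd hz)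
    rwa [Subgroup.index_bot] at this
  by_contra hz1
  have ho : orderOf z ≠ 1 := by rwa [Ne, orderOf_eq_one_iff]
  obtain ⟨q, hq, hqd⟩ := Nat.exists_prime_and_dvd ho
  have hqG : q ∣ Nat.card G := hqd.trans (orderOf_dvd_of_pow_eq_one h0)
  obtain ⟨P, hP1, hP2⟩ := h q hq hqG
  exact hP1 (hqd.trans (orderOf_dvd_of_pow_eq_one (pow_index_eq_one σ hs P hP2 (hc hz) (hd hz))))

/-- the preimage of a cyclic subgroup under a central extension is commutative -/
theorem comm_of_zpowers (σ : Γ →* G) (hs : Function.Surjective σ)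
    (hker : σ.ker ≤ Subgroup.center Γ) (g : G) {x y : Γ} (hx : σ x ∈ Subgroup.zpowers g)
    (hy : σ y ∈ Subgroup.zpowers g) : x * y = y * x := by
  obtain ⟨g', rfl⟩ := hs g
  rw [Subgroup.zpowers_eq_closure, ← Set.image_singleton] at hx hy
  exact comm_of_closure σ hker {g'} (by
    intro a ha b hb
    rw [Set.mem_singleton_iff] at ha hb
    rw [ha, hb]) hx hy

theorem conj_central {z : Γ} (hz : ∀ t, t * z = z * t) (t : Γ) : t * z * t⁻¹ = z := by
  rw [hz t, mul_inv_cancel_right]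

theorem central_conj {z : Γ} (hz : ∀ t, t * z = z * t) (t : Γ) : z * t * z⁻¹ = t := by
  rw [← hz t, mul_inv_cancel_right]

/-- three conjugates under an element `g` with `A * A^g = A^(g^3)` up to the centre: all the
commutators vanish -/
theorem lifts_commute_aux (A B C D g : Γ) (hB : B = g * A * g⁻¹) (hC : C = g * B * g⁻¹)
    (hD : D = g * C * g⁻¹)
    (hu : ∀ t, t * (A * B * A⁻¹ * B⁻¹) = (A * B * A⁻¹ * B⁻¹) * t)
    (hv : ∀ t, t * (A * C * A⁻¹ * C⁻¹) = (A * C * A⁻¹ * C⁻¹) * t)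
    (hk : ∀ t, t * (D⁻¹ * (A * B)) = (D⁻¹ * (A * B)) * t) :
    A * B * A⁻¹ * B⁻¹ = 1 ∧ A * C * A⁻¹ * C⁻¹ = 1 := by
  have f1 : B * C * B⁻¹ * C⁻¹ = A * B * A⁻¹ * B⁻¹ := by
    have : B * C * B⁻¹ * C⁻¹ = g * (A * B * A⁻¹ * B⁻¹) * g⁻¹ := by
      rw [hC, hB]; group
    rw [this, conj_central hu]
  have f2 : C * D * C⁻¹ * D⁻¹ = A * B * A⁻¹ * B⁻¹ := by
    have : C * D * C⁻¹ * D⁻¹ = g * (B * C * B⁻¹ * C⁻¹) * g⁻¹ := by
      rw [hD, hC]; group
    rw [this, f1, conj_central hu]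
  have f3 : B * D * B⁻¹ * D⁻¹ = A * C * A⁻¹ * C⁻¹ := by
    have : B * D * B⁻¹ * D⁻¹ = g * (A * C * A⁻¹ * C⁻¹) * g⁻¹ := by
      rw [hD, hB]; group
    rw [this, conj_central hv]
  have f4 : D * (D⁻¹ * (A * B)) = A * B := by group
  obtain ⟨u, hu_def⟩ : ∃ u, u = A * B * A⁻¹ * B⁻¹ := ⟨_, rfl⟩
  obtain ⟨v, hv_def⟩ : ∃ v, v = A * C * A⁻¹ * C⁻¹ := ⟨_, rfl⟩
  rw [← hu_def] at hu f1 f2 ⊢
  rw [← hv_def] at hv f3 ⊢
  generalize D⁻¹ * (A * B) = k at hk f4
  -- commutators with `D * k = A * B`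
  have g1 : (D * k) * B * (D * k)⁻¹ * B⁻¹ = v⁻¹ := by
    have : (D * k) * B * (D * k)⁻¹ * B⁻¹ = D * (k * B * k⁻¹) * D⁻¹ * B⁻¹ := by group
    rw [this, central_conj hk, ← f3]; group
  have g2 : (D * k) * B * (D * k)⁻¹ * B⁻¹ = u := by
    rw [f4, hu_def]; group
  have g3 : (D * k) * C * (D * k)⁻¹ * C⁻¹ = u⁻¹ := by
    have : (D * k) * C * (D * k)⁻¹ * C⁻¹ = D * (k * C * k⁻¹) * D⁻¹ * C⁻¹ := by group
    rw [this, central_conj hk, ← f2]; group
  have g4 : (D * k) * C * (D * k)⁻¹ * C⁻¹ = u * v := by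
    have : (A * B) * C * (A * B)⁻¹ * C⁻¹ = A * (B * C * B⁻¹ * C⁻¹) * A⁻¹ * (A * C * A⁻¹ * C⁻¹) := by
      group
    rw [f4, this, f1, conj_central hu, ← hv_def]
  have e1 : u = v⁻¹ := g2.symm.trans g1
  have e2 : u⁻¹ = u * v := g3.symm.trans g4
  rw [e1, inv_mul_cancel, inv_inv] at e2
  refine ⟨?_, e2⟩
  rw [e1, e2, inv_one]

/-- lifts of three commuting conjugates `a`, `a^g`, `a^(g^2)` with `a * a^g = a^(g^3)` commute -/
theorem lifts_commute (σ : Γ →* G) (hker : σ.ker ≤ Subgroup.center Γ) (A g' : Γ) (a g : G)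
    (hA : σ A = a) (hg : σ g' = g)
    (h01 : a * (g * a * g⁻¹) = g * a * g⁻¹ * a)
    (h02 : a * (g * g * a * (g * g)⁻¹) = g * g * a * (g * g)⁻¹ * a)
    (h3 : a * (g * a * g⁻¹) = g * g * g * a * (g * g * g)⁻¹) :
    ∀ x ∈ ({A, g' * A * g'⁻¹, g' * g' * A * (g' * g')⁻¹} : Set Γ),
      ∀ y ∈ ({A, g' * A * g'⁻¹, g' * g' * A * (g' * g')⁻¹} : Set Γ), x * y = y * x := by
  have cen : ∀ w : Γ, σ w = 1 → ∀ t, t * w = w * t := fun w hw t =>
    Subgroup.mem_center_iff.1 (hker (MonoidHom.mem_ker.2 hw)) t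
  obtain ⟨B, hB⟩ : ∃ B, B = g' * A * g'⁻¹ := ⟨_, rfl⟩
  obtain ⟨C, hC⟩ : ∃ C, C = g' * B * g'⁻¹ := ⟨_, rfl⟩
  obtain ⟨D, hD⟩ : ∃ D, D = g' * C * g'⁻¹ := ⟨_, rfl⟩
  have sB : σ B = g * a * g⁻¹ := by rw [hB, map_mul, map_mul, map_inv, hA, hg]
  have sC : σ C = g * g * a * (g * g)⁻¹ := by
    rw [hC, map_mul, map_mul, map_inv, sB, hg]; group
  have sD : σ D = g * g * g * a * (g * g * g)⁻¹ := by
    rw [hD, map_mul, map_mul, map_inv, sC, hg]; group
  have hu := cen (A * B * A⁻¹ * B⁻¹) (by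
    rw [map_mul, map_mul, map_mul, map_inv, map_inv, hA, sB, h01]; group)
  have hv := cen (A * C * A⁻¹ * C⁻¹) (by
    rw [map_mul, map_mul, map_mul, map_inv, map_inv, hA, sC, h02]; group)
  have hk := cen (D⁻¹ * (A * B)) (by
    rw [map_mul, map_mul, map_inv, hA, sB, sD, h3]; group)
  obtain ⟨e1, e2⟩ := lifts_commute_aux A B C D g' hB hC hD hu hv hk
  have cAB : A * B = B * A := by
    have : A * B = (A * B * A⁻¹ * B⁻¹) * (B * A) := by group
    rw [this, e1, one_mul]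
  have cAC : A * C = C * A := by
    have : A * C = (A * C * A⁻¹ * C⁻¹) * (C * A) := by group
    rw [this, e2, one_mul]
  have cBC : B * C = C * B := by
    rw [hC, hB]
    have : g' * A * g'⁻¹ * (g' * (g' * A * g'⁻¹) * g'⁻¹) = g' * (A * (g' * A * g'⁻¹)) * g'⁻¹ := by
      group
    rw [this, ← hB, cAB, hB]; group
  have eC : g' * g' * A * (g' * g')⁻¹ = C := by rw [hC, hB]; group
  rw [eC, ← hB]
  intro x hx y hy
  simp only [Set.mem_insert_iff, Set.mem_singleton_iff] at hx hy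
  rcases hx with rfl | rfl | rfl <;> rcases hy with rfl | rfl | rfl
  · rfl
  · exact cAB
  · exact cAC
  · exact cAB.symm
  · rfl
  · exact cBC
  · exact cAC.symm
  · exact cBC.symm
  · rfl

end Schur

end Cfsg.Agent.Helper17.J1
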