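import Mathlib
import Cfsg.Agent.Helper17.J1.Schur

/-!
# Triviality of stem extensions, continued (helper17)

Transfer into a preimage whose commutator subgroup is controlled; semidihedral Sylow
2-subgroups of order 16; elementary abelian Sylow 3-subgroups of order 9 with an element inverting
one generator and centralising the other; groups of order 7920 with such Sylow subgroups.
-/

set_option autoImplicit false

universe u

namespace Cfsg.Agent.Helper17.J1

section Schur2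

variable {Γ : Type*} {G : Type*} [Group Γ] [Group G]

/-- commutators of elements of the subgroup generated by a set `S` normalising `W`, when the
commutators of the elements of `S` lie in `W` -/
theorem commutator_mem_of_gens (W : Subgroup Γ) (S : Set Γ)
    (hN : ∀ s ∈ S, s ∈ Subgroup.normalizer (W : Set Γ))
    (hC : ∀ s ∈ S, ∀ t ∈ S, s * t * s⁻¹ * t⁻¹ ∈ W) {g h : Γ}
    (hg : g ∈ Subgroup.closure S) (hh : h ∈ Subgroup.closure S) : g * h * g⁻¹ * h⁻¹ ∈ W := by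
  have hle : Subgroup.closure S ≤ Subgroup.normalizer (W : Set Γ) := (Subgroup.closure_le _).2 hN
  have conj_mem : ∀ x ∈ Subgroup.closure S, ∀ w ∈ W, x * w * x⁻¹ ∈ W := fun x hx w hw =>
    (Subgroup.mem_normalizer_iff.1 (hle hx) w).1 hw
  have conj_mem' : ∀ x ∈ Subgroup.closure S, ∀ w ∈ W, x⁻¹ * w * x ∈ W := fun x hx w hw =>
    (Subgroup.mem_normalizer_iff''.1 (hle hx) w).1 hw
  refine Subgroup.closure_induction₂ (p := fun x y _ _ => x * y * x⁻¹ * y⁻¹ ∈ W)
    ?_ ?_ ?_ ?_ ?_ ?_ ?_ hg hh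
  · intro x y hx hy
    exact hC x hx y hy
  · intro x _
    have e : (1 : Γ) * x * 1⁻¹ * x⁻¹ = 1 := by group
    rw [e]; exact W.one_mem
  · intro x _
    have e : x * 1 * x⁻¹ * (1 : Γ)⁻¹ = 1 := by group
    rw [e]; exact W.one_mem
  · intro x y z hx _ _ h1 h2
    have e : x * y * z * (x * y)⁻¹ * z⁻¹ = x * (y * z * y⁻¹ * z⁻¹) * x⁻¹ * (x * z * x⁻¹ * z⁻¹) := by
      group
    rw [e]
    exact W.mul_mem (conj_mem x hx _ h2) h1
  · intro y z x hy _ _ h1 h2
    have e : x * (y * z) * x⁻¹ * (y * z)⁻¹ =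
        (x * y * x⁻¹ * y⁻¹) * (y * (x * z * x⁻¹ * z⁻¹) * y⁻¹) := by group
    rw [e]
    exact W.mul_mem h1 (conj_mem y hy _ h2)
  · intro x y hx _ h1
    have e : x⁻¹ * y * x⁻¹⁻¹ * y⁻¹ = x⁻¹ * (x * y * x⁻¹ * y⁻¹)⁻¹ * x := by group
    rw [e]
    exact conj_mem' x hx _ (W.inv_mem h1)
  · intro x y _ hy h1
    have e : x * y⁻¹ * x⁻¹ * y⁻¹⁻¹ = y⁻¹ * (x * y * x⁻¹ * y⁻¹)⁻¹ * y := by group
    rw [e]
    exact conj_mem' y hy _ (W.inv_mem h1)

/-- the transfer: a central commutator, raised to the index of `P`, lies in any subgroup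
containing the commutators of the preimage of `P` -/
theorem pow_index_mem [Finite Γ] (σ : Γ →* G) (hs : Function.Surjective σ) (P : Subgroup G)
    (W : Subgroup Γ) (hW : ∀ g h : Γ, σ g ∈ P → σ h ∈ P → g * h * g⁻¹ * h⁻¹ ∈ W) {z : Γ}
    (hzc : z ∈ Subgroup.center Γ) (hzd : z ∈ commutator Γ) : z ^ P.index ∈ W := by
  have key : ∀ (k : ℕ) (g₀ : Γ), g₀⁻¹ * z ^ k * g₀ ∈ P.comap σ → g₀⁻¹ * z ^ k * g₀ = z ^ k := by
    intro k g₀ _
    have h := pow_mem hzc k
    rw [Subgroup.mem_center_iff] at h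
    rw [mul_assoc, ← h g₀, inv_mul_cancel_left]
  have h1 := MonoidHom.transfer_eq_pow (Abelianization.of (G := P.comap σ)) z key
  have h2 : MonoidHom.transfer (Abelianization.of (G := P.comap σ)) z = 1 :=
    Abelianization.commutator_subset_ker _ hzd
  rw [h2] at h1
  have h3 : (⟨z ^ (P.comap σ).index, MonoidHom.transfer_eq_pow_aux z key⟩ : P.comap σ) ∈
      commutator (P.comap σ) := by
    rw [← Abelianization.ker_of, MonoidHom.mem_ker]
    exact h1.symm
  have h4 : commutator (P.comap σ) ≤ W.comap (P.comap σ).subtype := by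
    show ⁅(⊤ : Subgroup (P.comap σ)), ⊤⁆ ≤ _
    rw [Subgroup.commutator_le]
    intro g₁ _ g₂ _
    rw [Subgroup.mem_comap, commutatorElement_def]
    exact hW g₁ g₂ g₁.2 g₂.2
  have h5 : z ^ (P.comap σ).index ∈ W := h4 h3
  rwa [Subgroup.index_comap_of_surjective P hs] at h5

/-- a finite stem extension is injective when each element of the kernel is killed by numbers
prime to every prime divisor of `|G|` -/
theorem ker_eq_bot_of_pow [Finite Γ] (σ : Γ →* G) (hσ : Cfsg.IsStemExtension σ)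
    (h : ∀ p : ℕ, p.Prime → p ∣ Nat.card G → ∀ z ∈ σ.ker, ∃ m : ℕ, ¬ p ∣ m ∧ z ^ m = 1) :
    σ.ker = ⊥ := by
  obtain ⟨hs, hc, hd⟩ := hσ
  rw [eq_bot_iff]
  intro z hz
  rw [Subgroup.mem_bot]
  have h0 : z ^ Nat.card G = 1 := by
    have := pow_index_eq_one σ hs ⊥ (fun x y hx hy => by
      have hx' : x ∈ Subgroup.center Γ := hc (by rwa [Subgroup.mem_bot] at hx)
      rw [Subgroup.mem_center_iff] at hx'
      exact (hx' y).symm) (hc hz) (hd hz)
    rwa [Subgroup.index_bot] at this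
  by_contra hz1
  have ho : orderOf z ≠ 1 := by rwa [Ne, orderOf_eq_one_iff]
  obtain ⟨q, hq, hqd⟩ := Nat.exists_prime_and_dvd ho
  have hqG : q ∣ Nat.card G := hqd.trans (orderOf_dvd_of_pow_eq_one h0)
  obtain ⟨m, hm1, hm2⟩ := h q hq hqG z hz
  exact hm1 (hqd.trans (orderOf_dvd_of_pow_eq_one hm2))

theorem mem_normalizer_zpowers {s w : Γ} (h1 : s * w * s⁻¹ ∈ Subgroup.zpowers w)
    (h2 : s⁻¹ * w * s ∈ Subgroup.zpowers w) :
    s ∈ Subgroup.normalizer ((Subgroup.zpowers w : Subgroup Γ) : Set Γ) := by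
  rw [Subgroup.mem_normalizer_iff]
  intro h
  constructor
  · intro hh
    obtain ⟨i, rfl⟩ := Subgroup.mem_zpowers_iff.1 hh
    have e : s * w ^ i * s⁻¹ = (s * w * s⁻¹) ^ i := by rw [conj_zpow]
    rw [e]
    exact Subgroup.zpow_mem _ h1 i
  · intro hh
    obtain ⟨i, hi⟩ := Subgroup.mem_zpowers_iff.1 hh
    have e : h = (s⁻¹ * w * s) ^ i := by
      have e1 : (s⁻¹ * w * s) ^ i = s⁻¹ * w ^ i * s := by
        have := conj_zpow (a := s⁻¹) (b := w) (i := i)
        rw [inv_inv] at this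
        exact this
      rw [e1, hi]; group
    rw [e]
    exact Subgroup.zpow_mem _ h2 i

/-- the relations of a lift of the semidihedral group of order 16 -/
theorem sd16_aux (X Y w : Γ) (hw : w = Y * X * Y⁻¹ * X⁻¹)
    (hk : ∀ t, t * (w * (X ^ 2)⁻¹) = (w * (X ^ 2)⁻¹) * t)
    (hY2 : ∀ t, t * Y ^ 2 = Y ^ 2 * t) :
    X * w = w * X ∧ Y * w * Y⁻¹ = w ^ 3 ∧ w ^ 4 = 1 ∧ Y⁻¹ * w * Y = w ^ 3 := by
  obtain ⟨k, hk_def⟩ : ∃ k, k = w * (X ^ 2)⁻¹ := ⟨_, rfl⟩
  rw [← hk_def] at hk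
  have e0 : w = k * X ^ 2 := by rw [hk_def]; group
  have c1 : X * w = w * X := by
    calc X * w = (X * k) * X ^ 2 := by rw [e0]; group
      _ = k * X * X ^ 2 := by rw [hk X]
      _ = k * X ^ 2 * X := by group
      _ = w * X := by rw [← e0]
  have d1 : Y * X * Y⁻¹ = w * X := by rw [hw]; group
  have e1 : Y * w * Y⁻¹ = w ^ 3 := by
    calc Y * w * Y⁻¹ = (Y * k) * X ^ 2 * Y⁻¹ := by rw [e0]; group
      _ = k * Y * X ^ 2 * Y⁻¹ := by rw [hk Y]
      _ = k * ((Y * X * Y⁻¹) * (Y * X * Y⁻¹)) := by simp [pow_succ, mul_assoc]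
      _ = k * ((w * X) * (w * X)) := by rw [d1]
      _ = k * (w * (X * w) * X) := by group
      _ = k * (w * (w * X) * X) := by rw [c1]
      _ = (k * w) * w * X ^ 2 := by simp [pow_succ, mul_assoc]
      _ = (w * k) * w * X ^ 2 := by rw [hk w]
      _ = w * (k * w) * X ^ 2 := by group
      _ = w * (w * k) * X ^ 2 := by rw [hk w]
      _ = w * w * (k * X ^ 2) := by group
      _ = w * w * w := by rw [← e0]
      _ = w ^ 3 := by simp [pow_succ, mul_assoc]
  have f1 : w ^ 4 = 1 := by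
    have a1 : Y * (Y * X * Y⁻¹) * Y⁻¹ = X := by
      calc Y * (Y * X * Y⁻¹) * Y⁻¹ = Y ^ 2 * X * (Y ^ 2)⁻¹ := by simp [pow_succ, mul_assoc]
        _ = X := central_conj hY2 X
    have a2 : Y * (Y * X * Y⁻¹) * Y⁻¹ = w ^ 4 * X := by
      calc Y * (Y * X * Y⁻¹) * Y⁻¹ = Y * (w * X) * Y⁻¹ := by rw [d1]
        _ = (Y * w * Y⁻¹) * (Y * X * Y⁻¹) := by group
        _ = w ^ 3 * (w * X) := by rw [e1, d1]
        _ = w ^ 4 * X := by group
    have a3 : w ^ 4 * X = 1 * X := by rw [one_mul, ← a2, a1]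
    exact mul_right_cancel a3
  refine ⟨c1, e1, f1, ?_⟩
  have b1 : Y * w ^ 3 * Y⁻¹ = w := by
    calc Y * w ^ 3 * Y⁻¹ = (Y * w * Y⁻¹) ^ 3 := by rw [conj_pow]
      _ = (w ^ 3) ^ 3 := by rw [e1]
      _ = (w ^ 4) ^ 2 * w := by group
      _ = w := by rw [f1, one_pow, one_mul]
  calc Y⁻¹ * w * Y = Y⁻¹ * (Y * w ^ 3 * Y⁻¹) * Y := by rw [b1]
    _ = w ^ 3 := by group

/-- semidihedral Sylow 2-subgroup of order 16: the odd index kills the kernel -/
theorem sd16_pow_index [Finite Γ] (σ : Γ →* G) (hσ : Cfsg.IsStemExtension σ) (x y : G)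
    (hx8 : x ^ 8 = 1) (hx4 : x ^ 4 ≠ 1) (hy : y ^ 2 = 1) (hxy : y * x * y⁻¹ = x ^ 3) {z : Γ}
    (hz : z ∈ σ.ker) : z ^ (Subgroup.zpowers y ⊔ Subgroup.zpowers x).index = 1 := by
  obtain ⟨hs, hc, hd⟩ := hσ
  have cen : ∀ v : Γ, σ v = 1 → ∀ t, t * v = v * t := fun v hv t =>
    Subgroup.mem_center_iff.1 (hc (MonoidHom.mem_ker.2 hv)) t
  obtain ⟨X, hX⟩ := hs x
  obtain ⟨Y, hY⟩ := hs y
  obtain ⟨w, hw⟩ : ∃ w, w = Y * X * Y⁻¹ * X⁻¹ := ⟨_, rfl⟩
  have sw : σ w = x ^ 2 := by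
    rw [hw, map_mul, map_mul, map_mul, map_inv, map_inv, hX, hY, hxy]; group
  have hk := cen (w * (X ^ 2)⁻¹) (by rw [map_mul, map_inv, map_pow, sw, hX, mul_inv_cancel])
  have hY2 := cen (Y ^ 2) (by rw [map_pow, hY, hy])
  obtain ⟨c1, e1, f1, g1⟩ := sd16_aux X Y w hw hk hY2
  have hN : ∀ s ∈ ({X, Y} ∪ (σ.ker : Set Γ) : Set Γ),
      s ∈ Subgroup.normalizer ((Subgroup.zpowers w : Subgroup Γ) : Set Γ) := by
    rintro s ((rfl | rfl) | hs')
    · apply mem_normalizer_zpowers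
      · rw [c1, mul_inv_cancel_right]; exact Subgroup.mem_zpowers w
      · rw [mul_assoc, ← c1, inv_mul_cancel_left]; exact Subgroup.mem_zpowers w
    · apply mem_normalizer_zpowers
      · rw [e1]; exact Subgroup.pow_mem _ (Subgroup.mem_zpowers w) 3
      · rw [g1]; exact Subgroup.pow_mem _ (Subgroup.mem_zpowers w) 3
    · have cs := cen s (MonoidHom.mem_ker.1 hs')
      apply mem_normalizer_zpowers
      · rw [← cs w, mul_inv_cancel_right]; exact Subgroup.mem_zpowers w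
      · rw [mul_assoc, cs w, inv_mul_cancel_left]; exact Subgroup.mem_zpowers w
  have hC : ∀ s ∈ ({X, Y} ∪ (σ.ker : Set Γ) : Set Γ), ∀ t ∈ ({X, Y} ∪ (σ.ker : Set Γ) : Set Γ),
      s * t * s⁻¹ * t⁻¹ ∈ Subgroup.zpowers w := by
    have one : ∀ v : Γ, v = 1 → v ∈ Subgroup.zpowers w := fun v hv => hv ▸ Subgroup.one_mem _
    rintro s ((rfl | rfl) | hs') t ((rfl | rfl) | ht')
    · exact one _ (by group)
    · have e : s * t * s⁻¹ * t⁻¹ = w⁻¹ := by rw [hw]; group
      rw [e]; exact Subgroup.inv_mem _ (Subgroup.mem_zpowers w)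
    · have ct := cen t (MonoidHom.mem_ker.1 ht')
      exact one _ (by rw [ct s, mul_inv_cancel_right, mul_inv_cancel])
    · rw [← hw]; exact Subgroup.mem_zpowers w
    · exact one _ (by group)
    · have ct := cen t (MonoidHom.mem_ker.1 ht')
      exact one _ (by rw [ct s, mul_inv_cancel_right, mul_inv_cancel])
    · have cs := cen s (MonoidHom.mem_ker.1 hs')
      exact one _ (by rw [← cs t, mul_inv_cancel_right, mul_inv_cancel])
    · have cs := cen s (MonoidHom.mem_ker.1 hs')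
      exact one _ (by rw [← cs t, mul_inv_cancel_right, mul_inv_cancel])
    · have cs := cen s (MonoidHom.mem_ker.1 hs')
      exact one _ (by rw [← cs t, mul_inv_cancel_right, mul_inv_cancel])
  have hP : Subgroup.zpowers y ⊔ Subgroup.zpowers x ≤
      (Subgroup.closure ({X, Y} ∪ (σ.ker : Set Γ) : Set Γ)).map σ := by
    apply sup_le
    · rw [Subgroup.zpowers_le]
      exact ⟨Y, Subgroup.subset_closure (by simp), hY⟩
    · rw [Subgroup.zpowers_le]
      exact ⟨X, Subgroup.subset_closure (by simp), hX⟩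
  have hH : ∀ g : Γ, σ g ∈ Subgroup.zpowers y ⊔ Subgroup.zpowers x →
      g ∈ Subgroup.closure ({X, Y} ∪ (σ.ker : Set Γ) : Set Γ) := by
    intro g hg
    obtain ⟨g', hg', e⟩ := hP hg
    have hk' : g'⁻¹ * g ∈ σ.ker := by
      rw [MonoidHom.mem_ker, map_mul, map_inv, e, inv_mul_cancel]
    have e2 : g = g' * (g'⁻¹ * g) := by group
    rw [e2]
    exact Subgroup.mul_mem _ hg' (Subgroup.subset_closure (Or.inr hk'))
  have hz' := pow_index_mem σ hs (Subgroup.zpowers y ⊔ Subgroup.zpowers x) (Subgroup.zpowers w)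
    (fun g h hg hh => commutator_mem_of_gens _ _ hN hC (hH g hg) (hH h hh)) (hc hz) (hd hz)
  obtain ⟨i, hi⟩ := Subgroup.mem_zpowers_iff.1 hz'
  have h1 : σ (w ^ i) = 1 := by
    rw [hi, map_pow, MonoidHom.mem_ker.1 hz, one_pow]
  rw [map_zpow, sw, ← zpow_natCast x 2, ← zpow_mul] at h1
  have : Fact (Nat.Prime 2) := ⟨Nat.prime_two⟩
  have ho : orderOf x = 2 ^ (2 + 1) := orderOf_eq_prime_pow (by norm_num; exact hx4) (by norm_num; exact hx8)
  have h2 : ((orderOf x : ℕ) : ℤ) ∣ ((2 : ℕ) : ℤ) * i := orderOf_dvd_iff_zpow_eq_one.2 h1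
  rw [ho] at h2
  have h3 : (4 : ℤ) ∣ i := by
    obtain ⟨j, hj⟩ := h2
    exact ⟨j, by push_cast at hj; omega⟩
  obtain ⟨j, rfl⟩ := h3
  have f1' : w ^ (4 : ℤ) = 1 := by exact_mod_cast f1
  rw [← hi, zpow_mul, f1', one_zpow]

/-- the index of a semidihedral subgroup of order 16 in a group of order 7920 is odd -/
theorem sd16_index [Finite G] (hcard : Nat.card G = 7920) (x y : G)
    (hx8 : x ^ 8 = 1) (hx4 : x ^ 4 ≠ 1) (hy : y ^ 2 = 1) (hxy : y * x * y⁻¹ = x ^ 3) :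
    ¬ 2 ∣ (Subgroup.zpowers y ⊔ Subgroup.zpowers x).index := by
  have : Fact (Nat.Prime 2) := ⟨Nat.prime_two⟩
  have hpy : IsPGroup 2 (Subgroup.zpowers y) := by
    rintro ⟨g, hg⟩
    obtain ⟨i, rfl⟩ := Subgroup.mem_zpowers_iff.1 hg
    refine ⟨1, Subtype.ext ?_⟩
    show (y ^ i) ^ 2 ^ 1 = 1
    rw [pow_one, ← zpow_natCast, ← zpow_mul, mul_comm, zpow_mul, zpow_natCast, hy, one_zpow]
  have hpx : IsPGroup 2 (Subgroup.zpowers x) := by
    rintro ⟨g, hg⟩
    obtain ⟨i, rfl⟩ := Subgroup.mem_zpowers_iff.1 hg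
    refine ⟨3, Subtype.ext ?_⟩
    show (x ^ i) ^ 2 ^ 3 = 1
    rw [← zpow_natCast, ← zpow_mul, mul_comm, zpow_mul, zpow_natCast]
    norm_num
    rw [hx8, one_zpow]
  have hyi : y⁻¹ = y := inv_eq_of_mul_eq_one_left (by rw [← pow_two, hy])
  have hnorm : Subgroup.zpowers y ≤
      Subgroup.normalizer ((Subgroup.zpowers x : Subgroup G) : Set G) := by
    rw [Subgroup.zpowers_le]
    apply mem_normalizer_zpowers
    · rw [hxy]; exact Subgroup.pow_mem _ (Subgroup.mem_zpowers x) 3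
    · have e : y⁻¹ * x * y = y * x * y⁻¹ := by rw [hyi]
      rw [e, hxy]; exact Subgroup.pow_mem _ (Subgroup.mem_zpowers x) 3
  have hP : IsPGroup 2 ↥(Subgroup.zpowers y ⊔ Subgroup.zpowers x) :=
    IsPGroup.to_sup_of_normal_right' hpy hpx hnorm
  obtain ⟨k, hk⟩ := IsPGroup.iff_card.1 hP
  have hox : Nat.card (Subgroup.zpowers x) = 8 := by
    have ho : orderOf x = 2 ^ (2 + 1) :=
      orderOf_eq_prime_pow (by norm_num; exact hx4) (by norm_num; exact hx8)
    rw [Nat.card_zpowers, ho]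
    norm_num
  have hyx : y ∉ Subgroup.zpowers x := by
    intro hmem
    obtain ⟨i, rfl⟩ := Subgroup.mem_zpowers_iff.1 hmem
    have e : x ^ i * x * (x ^ i)⁻¹ = x := by group
    rw [e] at hxy
    have e2 : x * x ^ 2 = x * 1 := by
      rw [mul_one, ← pow_succ']
      exact hxy.symm
    have e3 : x ^ 2 = 1 := mul_left_cancel e2
    apply hx4
    have e4 : x ^ 4 = (x ^ 2) ^ 2 := by group
    rw [e4, e3, one_pow]
  have h8 : 8 < 2 ^ k := by
    by_contra hcon
    have hle : Nat.card ↥(Subgroup.zpowers y ⊔ Subgroup.zpowers x) ≤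
        Nat.card (Subgroup.zpowers x) := by rw [hk, hox]; omega
    have := Subgroup.eq_of_le_of_card_ge (le_sup_right : Subgroup.zpowers x ≤ _) hle
    apply hyx
    rw [this]
    exact (le_sup_left : Subgroup.zpowers y ≤ _) (Subgroup.mem_zpowers y)
  have hk4 : 4 ≤ k := by
    by_contra hcon
    have : k ≤ 3 := by omega
    have := Nat.pow_le_pow_right (show 0 < 2 by norm_num) this
    omega
  have h16 : 16 ∣ Nat.card ↥(Subgroup.zpowers y ⊔ Subgroup.zpowers x) := by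
    rw [hk]
    exact pow_dvd_pow 2 hk4
  obtain ⟨m, hm⟩ := h16
  have hi := Subgroup.card_mul_index (Subgroup.zpowers y ⊔ Subgroup.zpowers x)
  rw [hcard, hm, mul_assoc] at hi
  have hi' : m * (Subgroup.zpowers y ⊔ Subgroup.zpowers x).index = 495 := by omega
  intro h2
  have h3 : 2 ∣ 495 := hi' ▸ Dvd.dvd.mul_left h2 m
  omega

/-- an element inverting `A` and centralising `B` modulo the centre forces `A`, `B` to commute -/
theorem e9_aux (A B T u : Γ) (hu_def : u = A * B * A⁻¹ * B⁻¹) (hu : ∀ t, t * u = u * t)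
    (hk1 : ∀ t, t * (T * A * T⁻¹ * A) = (T * A * T⁻¹ * A) * t)
    (hk2 : ∀ t, t * (T * B * T⁻¹ * B⁻¹) = (T * B * T⁻¹ * B⁻¹) * t)
    (hA3 : ∀ t, t * A ^ 3 = A ^ 3 * t) : u = 1 := by
  obtain ⟨k1, hk1_def⟩ : ∃ k1, k1 = T * A * T⁻¹ * A := ⟨_, rfl⟩
  obtain ⟨k2, hk2_def⟩ : ∃ k2, k2 = T * B * T⁻¹ * B⁻¹ := ⟨_, rfl⟩
  rw [← hk1_def] at hk1
  rw [← hk2_def] at hk2
  have tA : T * A * T⁻¹ = k1 * A⁻¹ := by rw [hk1_def]; group
  have tB : T * B * T⁻¹ = k2 * B := by rw [hk2_def]; group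
  have hui : ∀ t, t * u⁻¹ = u⁻¹ * t := by
    intro t
    have := hu t⁻¹
    have e : t * u⁻¹ = (u * t⁻¹)⁻¹ := by group
    rw [e, ← this]; group
  -- conjugating by `T`
  have s1 : T * u * T⁻¹ = u⁻¹ := by
    calc T * u * T⁻¹ = (T * A * T⁻¹) * (T * B * T⁻¹) * (T * A * T⁻¹)⁻¹ * (T * B * T⁻¹)⁻¹ := by
          rw [hu_def]; group
      _ = (k1 * A⁻¹) * (k2 * B) * (k1 * A⁻¹)⁻¹ * (k2 * B)⁻¹ := by rw [tA, tB]
      _ = k1 * (A⁻¹ * (k2 * B) * A) * k1⁻¹ * (k2 * B)⁻¹ := by group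
      _ = A⁻¹ * (k2 * B) * A * (k2 * B)⁻¹ := by rw [central_conj hk1]
      _ = (A⁻¹ * k2 * A) * (A⁻¹ * B * A * B⁻¹) * k2⁻¹ := by group
      _ = k2 * (A⁻¹ * B * A * B⁻¹) * k2⁻¹ := by
          have := conj_central hk2 A⁻¹
          rw [inv_inv] at this
          rw [this]
      _ = A⁻¹ * B * A * B⁻¹ := central_conj hk2 _
      _ = A⁻¹ * u⁻¹ * A := by rw [hu_def]; group
      _ = u⁻¹ := by rw [hui A⁻¹, mul_assoc, inv_mul_cancel, mul_one]
  have s2 : u = u⁻¹ := by rw [← s1, conj_central hu]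
  have h1 : A * B * A⁻¹ = u * B := by rw [hu_def]; group
  have h2 : A * (u * B) * A⁻¹ = u * (u * B) := by
    calc A * (u * B) * A⁻¹ = (A * u * A⁻¹) * (A * B * A⁻¹) := by group
      _ = u * (u * B) := by rw [conj_central hu, h1]
  have h3 : A * (u * (u * B)) * A⁻¹ = u * (u * (u * B)) := by
    calc A * (u * (u * B)) * A⁻¹ = (A * u * A⁻¹) * (A * (u * B) * A⁻¹) := by group
      _ = u * (u * (u * B)) := by rw [conj_central hu, h2]
  have h4 : A ^ 3 * B * (A ^ 3)⁻¹ = u * (u * (u * B)) := by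
    calc A ^ 3 * B * (A ^ 3)⁻¹ = A * (A * (A * B * A⁻¹) * A⁻¹) * A⁻¹ := by
          simp [pow_succ, mul_assoc]
      _ = u * (u * (u * B)) := by rw [h1, h2, h3]
  have h5 : A ^ 3 * B * (A ^ 3)⁻¹ = B := central_conj hA3 B
  have h6 : u * (u * u) = 1 := by
    have : u * (u * (u * B)) * B⁻¹ = B * B⁻¹ := by rw [← h4, h5]
    rw [mul_inv_cancel] at this
    rw [← this]; group
  have h7 : u * u = 1 := by
    nth_rewrite 2 [s2]
    exact mul_inv_cancel u
  rw [h7, mul_one] at h6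
  exact h6

/-- elementary abelian Sylow 3-subgroup of order 9 with an element inverting `a` and
centralising `b`: the preimage is commutative -/
theorem e9_comm (σ : Γ →* G) (hs : Function.Surjective σ) (hc : σ.ker ≤ Subgroup.center Γ)
    (a b t : G) (ha : a ^ 3 = 1) (hab : a * b = b * a) (hta : t * a * t⁻¹ = a⁻¹)
    (htb : t * b * t⁻¹ = b) {g h : Γ} (hg : σ g ∈ Subgroup.zpowers a ⊔ Subgroup.zpowers b)
    (hh : σ h ∈ Subgroup.zpowers a ⊔ Subgroup.zpowers b) : g * h = h * g := by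
  have cen : ∀ v : Γ, σ v = 1 → ∀ t, t * v = v * t := fun v hv t =>
    Subgroup.mem_center_iff.1 (hc (MonoidHom.mem_ker.2 hv)) t
  obtain ⟨A, hA⟩ := hs a
  obtain ⟨B, hB⟩ := hs b
  obtain ⟨T, hT⟩ := hs t
  have hu := cen (A * B * A⁻¹ * B⁻¹) (by
    rw [map_mul, map_mul, map_mul, map_inv, map_inv, hA, hB, hab]; group)
  have hk1 := cen (T * A * T⁻¹ * A) (by
    rw [map_mul, map_mul, map_mul, map_inv, hA, hT, hta, inv_mul_cancel])
  have hk2 := cen (T * B * T⁻¹ * B⁻¹) (by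
    rw [map_mul, map_mul, map_mul, map_inv, map_inv, hB, hT, htb, mul_inv_cancel])
  have hA3 := cen (A ^ 3) (by rw [map_pow, hA, ha])
  have e1 := e9_aux A B T _ rfl hu hk1 hk2 hA3
  have cAB : A * B = B * A := by
    have : A * B = (A * B * A⁻¹ * B⁻¹) * (B * A) := by group
    rw [this, e1, one_mul]
  have hcomm : ∀ p ∈ ({A, B} : Set Γ), ∀ q ∈ ({A, B} : Set Γ), p * q = q * p := by
    intro p hp q hq
    simp only [Set.mem_insert_iff, Set.mem_singleton_iff] at hp hq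
    rcases hp with rfl | rfl <;> rcases hq with rfl | rfl
    · rfl
    · exact cAB
    · exact cAB.symm
    · rfl
  have hle : Subgroup.zpowers a ⊔ Subgroup.zpowers b ≤
      Subgroup.closure (σ '' ({A, B} : Set Γ)) := by
    apply sup_le
    · rw [Subgroup.zpowers_le]
      exact Subgroup.subset_closure ⟨A, by simp, hA⟩
    · rw [Subgroup.zpowers_le]
      exact Subgroup.subset_closure ⟨B, by simp, hB⟩
  exact comm_of_closure σ hc _ hcomm (hle hg) (hle hh)

/-- the index of such a subgroup of order 9 in a group of order 7920 is prime to 3 -/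
theorem e9_index [Finite G] (hcard : Nat.card G = 7920) (a b t : G) (ha : a ^ 3 = 1)
    (ha1 : a ≠ 1) (hb : b ^ 3 = 1) (hb1 : b ≠ 1) (hab : a * b = b * a)
    (hta : t * a * t⁻¹ = a⁻¹) (htb : t * b * t⁻¹ = b) :
    ¬ 3 ∣ (Subgroup.zpowers a ⊔ Subgroup.zpowers b).index := by
  have : Fact (Nat.Prime 3) := ⟨Nat.prime_three⟩
  have hpa : IsPGroup 3 (Subgroup.zpowers a) := by
    rintro ⟨g, hg⟩
    obtain ⟨i, rfl⟩ := Subgroup.mem_zpowers_iff.1 hg
    refine ⟨1, Subtype.ext ?_⟩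
    show (a ^ i) ^ 3 ^ 1 = 1
    rw [pow_one, ← zpow_natCast, ← zpow_mul, mul_comm, zpow_mul, zpow_natCast, ha, one_zpow]
  have hpb : IsPGroup 3 (Subgroup.zpowers b) := by
    rintro ⟨g, hg⟩
    obtain ⟨i, rfl⟩ := Subgroup.mem_zpowers_iff.1 hg
    refine ⟨1, Subtype.ext ?_⟩
    show (b ^ i) ^ 3 ^ 1 = 1
    rw [pow_one, ← zpow_natCast, ← zpow_mul, mul_comm, zpow_mul, zpow_natCast, hb, one_zpow]
  have hnorm : Subgroup.zpowers a ≤
      Subgroup.normalizer ((Subgroup.zpowers b : Subgroup G) : Set G) := by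
    rw [Subgroup.zpowers_le]
    apply mem_normalizer_zpowers
    · rw [hab, mul_inv_cancel_right]; exact Subgroup.mem_zpowers b
    · rw [mul_assoc, ← hab, inv_mul_cancel_left]; exact Subgroup.mem_zpowers b
  have hP : IsPGroup 3 ↥(Subgroup.zpowers a ⊔ Subgroup.zpowers b) :=
    IsPGroup.to_sup_of_normal_right' hpa hpb hnorm
  obtain ⟨k, hk⟩ := IsPGroup.iff_card.1 hP
  have hoa : Nat.card (Subgroup.zpowers a) = 3 := by
    rw [Nat.card_zpowers, orderOf_eq_prime ha ha1]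
  have hba : b ∉ Subgroup.zpowers a := by
    intro hmem
    obtain ⟨i, rfl⟩ := Subgroup.mem_zpowers_iff.1 hmem
    have e : t * a ^ i * t⁻¹ = (a ^ i)⁻¹ := by
      have e1 : t * a ^ i * t⁻¹ = (t * a * t⁻¹) ^ i := by rw [conj_zpow]
      rw [e1, hta, inv_zpow]
    rw [e] at htb
    have e2 : a ^ i * a ^ i = 1 := by
      nth_rewrite 1 [← htb]
      exact inv_mul_cancel _
    apply hb1
    have e3 : (a ^ i) ^ 3 = a ^ i * (a ^ i * a ^ i) := by group
    rw [e3, e2, mul_one] at hb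
    exact hb
  have h3 : 3 < 3 ^ k := by
    by_contra hcon
    have hle : Nat.card ↥(Subgroup.zpowers a ⊔ Subgroup.zpowers b) ≤
        Nat.card (Subgroup.zpowers a) := by rw [hk, hoa]; omega
    have := Subgroup.eq_of_le_of_card_ge (le_sup_left : Subgroup.zpowers a ≤ _) hle
    apply hba
    rw [this]
    exact (le_sup_right : Subgroup.zpowers b ≤ _) (Subgroup.mem_zpowers b)
  have hk2 : 2 ≤ k := by
    by_contra hcon
    have : k ≤ 1 := by omega
    have := Nat.pow_le_pow_right (show 0 < 3 by norm_num) this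
    omega
  have h9 : 9 ∣ Nat.card ↥(Subgroup.zpowers a ⊔ Subgroup.zpowers b) := by
    rw [hk]
    exact pow_dvd_pow 3 hk2
  obtain ⟨m, hm⟩ := h9
  have hi := Subgroup.card_mul_index (Subgroup.zpowers a ⊔ Subgroup.zpowers b)
  rw [hcard, hm, mul_assoc] at hi
  have hi' : m * (Subgroup.zpowers a ⊔ Subgroup.zpowers b).index = 880 := by omega
  intro h2
  have h3 : 3 ∣ 880 := hi' ▸ Dvd.dvd.mul_left h2 m
  omega

/-- the index of a subgroup of prime order -/
theorem zpowers_index [Finite G] {n p m : ℕ} (hcard : Nat.card G = n) (hp : p.Prime)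
    (hn : p * m = n) (hpm : ¬ p ∣ m) (c : G) (hc : c ^ p = 1) (hc1 : c ≠ 1) :
    ¬ p ∣ (Subgroup.zpowers c).index := by
  have : Fact p.Prime := ⟨hp⟩
  have hi := Subgroup.card_mul_index (Subgroup.zpowers c)
  rw [Nat.card_zpowers, orderOf_eq_prime hc hc1, hcard, ← hn] at hi
  rwa [Nat.eq_of_mul_eq_mul_left hp.pos hi]

end Schur2

/-- trivial Schur multiplier from the injectivity of all finite stem extensions -/
theorem hasCyclicSchurMultiplier_one {G : Type u} [Group G] [Finite G]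
    (h : ∀ (Γ : Type u) [Group Γ] [Finite Γ] (σ : Γ →* G), Cfsg.IsStemExtension σ → σ.ker = ⊥) :
    Cfsg.HasCyclicSchurMultiplier G 1 := by
  constructor
  · refine ⟨G, inferInstance, inferInstance, MonoidHom.id _, ⟨Function.surjective_id, ?_, ?_⟩, ?_⟩
    · rw [MonoidHom.ker_id]; exact bot_le
    · rw [MonoidHom.ker_id]; exact bot_le
    · have hu : Unique (MonoidHom.id G).ker := by
        rw [MonoidHom.ker_id]; infer_instance
      have hu' : Unique (Multiplicative (ZMod 1)) :=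
        { default := 1
          uniq := fun a => by
            apply Multiplicative.toAdd.injective
            exact Subsingleton.elim (α := ZMod 1) _ _ }
      exact ⟨MulEquiv.ofUnique⟩
  · intro Γ _ _ σ hσ
    have hk : σ.ker = ⊥ := h Γ σ hσ
    refine ⟨1, ?_⟩
    rintro ⟨z, hz⟩
    refine ⟨1, ?_⟩
    apply Subtype.ext
    have hz' : z = 1 := by rwa [hk, Subgroup.mem_bot] at hz
    show (1 : Γ) = z
    exact hz'.symm

/-- a group of order 7920 with a semidihedral subgroup of order 16, an elementary abelian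
subgroup of order 9 with an element inverting one generator and centralising the other, and
elements of orders 5 and 11 has trivial Schur multiplier -/
theorem schur_trivial_7920 {G : Type u} [Group G] [Finite G] (hcard : Nat.card G = 7920)
    (x y a b t c d : G) (hx8 : x ^ 8 = 1) (hx4 : x ^ 4 ≠ 1) (hy : y ^ 2 = 1)
    (hxy : y * x * y⁻¹ = x ^ 3) (ha : a ^ 3 = 1) (ha1 : a ≠ 1) (hb : b ^ 3 = 1) (hb1 : b ≠ 1)
    (hab : a * b = b * a) (hta : t * a * t⁻¹ = a⁻¹) (htb : t * b * t⁻¹ = b)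
    (hc : c ^ 5 = 1) (hc1 : c ≠ 1) (hd : d ^ 11 = 1) (hd1 : d ≠ 1) :
    Cfsg.HasCyclicSchurMultiplier G 1 := by
  apply hasCyclicSchurMultiplier_one
  intro Γ _ _ σ hσ
  apply ker_eq_bot_of_pow σ hσ
  intro p hp hpd z hz
  rw [hcard] at hpd
  have e : (7920 : ℕ) = 2 ^ 4 * (3 ^ 2 * (5 * 11)) := by norm_num
  rw [e] at hpd
  have hp5 : Nat.Prime 5 := by norm_num
  have hp11 : Nat.Prime 11 := by norm_num
  rcases (Nat.Prime.dvd_mul hp).1 hpd with h | h
  · have := (Nat.prime_dvd_prime_iff_eq hp Nat.prime_two).1 (hp.dvd_of_dvd_pow h)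
    subst this
    exact ⟨_, sd16_index hcard x y hx8 hx4 hy hxy, sd16_pow_index σ hσ x y hx8 hx4 hy hxy hz⟩
  rcases (Nat.Prime.dvd_mul hp).1 h with h | h
  · have := (Nat.prime_dvd_prime_iff_eq hp Nat.prime_three).1 (hp.dvd_of_dvd_pow h)
    subst this
    exact ⟨_, e9_index hcard a b t ha ha1 hb hb1 hab hta htb,
      pow_index_eq_one σ hσ.1 _ (fun g h hg hh => e9_comm σ hσ.1 hσ.2.1 a b t ha hab hta htb hg hh)
        (hσ.2.1 hz) (hσ.2.2 hz)⟩
  rcases (Nat.Prime.dvd_mul hp).1 h with h | h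
  · have := (Nat.prime_dvd_prime_iff_eq hp hp5).1 h
    subst this
    exact ⟨_, zpowers_index hcard hp (m := 1584) (by norm_num) (by norm_num) c hc hc1,
      pow_index_eq_one σ hσ.1 _ (fun g h hg hh => comm_of_zpowers σ hσ.1 hσ.2.1 c hg hh)
        (hσ.2.1 hz) (hσ.2.2 hz)⟩
  · have := (Nat.prime_dvd_prime_iff_eq hp hp11).1 h
    subst this
    exact ⟨_, zpowers_index hcard hp (m := 720) (by norm_num) (by norm_num) d hd hd1,
      pow_index_eq_one σ hσ.1 _ (fun g h hg hh => comm_of_zpowers σ hσ.1 hσ.2.1 d hg hh)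
        (hσ.2.1 hz) (hσ.2.2 hz)⟩

end Cfsg.Agent.Helper17.J1
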